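import Cfsg.Agent.DL.Dat.Card
import Cfsg.Agent.DL.Dat.Conj

/-!
# Pinned representatives of the simple reflections (helper2)

`Pn D i u n` : `n` is the representative of `s i` which belongs to the coordinate `a ↦ x (sr i) (u a)` (relations of `SL₂`).
-/

set_option autoImplicit false
set_option linter.unusedSectionVars false
set_option maxHeartbeats 400000

namespace Cfsg.Agent.KZ.Mts

open CoxeterSystem Cfsg.Agent.DL Cfsg.Agent.Nodes.Reps Cfsg.Agent.Nodes.BNOf Cfsg.Agent.Nodes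
  Cfsg.Agent.ChevalleyStructure.CoxeterGeom Cfsg.Agent.Tits.Roots Matrix

variable {p : ℕ} [Fact p.Prime] {k : Type} [Field k] [CharP k p] [IsAlgClosed k] {Y : Type} [Group Y] {N : Type}
  [Fintype N] [DecidableEq N] {ρ : Y →* GL N k} {F : MulAut Y} {G : Subgroup Y} (D : Datum p ρ F G)

/-- the simple coroots -/
def hh (i : D.I) : kˣ →* Y := D.τ.comp (coch (D.cw i))

theorem hh_apply (i : D.I) (a : kˣ) : hh D i a = D.τ (coch (D.cw i) a) := rfl

theorem hh_mem (i : D.I) (a : kˣ) : hh D i a ∈ D.T := D.τ_mem _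

theorem χ_hh (b : D.I → ℤ) (i : D.I) (a : kˣ) : D.χ b (hh D i a) = (a ^ pairing D.A i b : kˣ) := by
  rw [hh_apply, D.χ_τ, chr_coch, D.pair]

theorem pairing_sr (i j : D.I) : pairing D.A i (sr j) = D.A i j := by rw [sr, pairing_single, mul_one]

theorem rt (i : D.I) : D.Rt (sr i) := isRoot_sr D.cs D.h i

theorem xU (i : D.I) (a : k) : D.x (sr i) a ∈ D.U := D.sbn.X_le i (D.x_mem (rt D i) a)

variable {D}

theorem hh_x {b : D.I → ℤ} (hb : D.Rt b) (i : D.I) (a : kˣ) (u : k) :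
    hh D i a * D.x b u * (hh D i a)⁻¹ = D.x b ((a ^ pairing D.A i b : kˣ) * u) := by
  rw [D.tor' hb (hh_mem D i a), χ_hh]

theorem rp_hh {w : D.W} {m : Y} (hm : D.Rp w m) {i j : D.I} (h : D.act w (sr j) = sr i) (a : kˣ) :
    m * hh D j a * m⁻¹ = hh D i a := by
  rw [hh_apply, D.conj_τ hm, mon_coch, ← D.cor_act_sr, h, D.cor_sr, hh_apply]

theorem n_hh {i : D.I} {n : Y} (hn : D.Rp (D.cs.simple i) n) (a : kˣ) : n * hh D i a * n⁻¹ = hh D i a⁻¹ := by
  rw [hh_apply, D.conj_τ hn, mon_coch, ← D.cor_act_sr, Datum.act, rep_simple_sr, D.cor_neg (rt D i), D.cor_sr, coch_neg,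
    ← map_inv, hh_apply]

theorem τ_n {i : D.I} {n : Y} (hn : D.Rp (D.cs.simple i) n) (c : D.R → kˣ) :
    D.τ c * n * (D.τ c)⁻¹ = hh D i (chr (D.wt (sr i)) c) * n := by
  have h := D.conj_τ_rf (rt D i) (m := n) (by rwa [D.rf_sr]) c⁻¹
  rw [D.cor_sr, map_inv, map_inv, map_inv, inv_inv, map_mul, map_inv] at h
  calc _ = D.τ c * (n * (D.τ c)⁻¹ * n⁻¹) * n := by group
    _ = _ := by rw [h, hh_apply]; group

theorem rp_T {w : D.W} {m t : Y} (ht : t ∈ D.T) (hm : D.Rp w m) : D.Rp w (t * m) := by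
  simpa using (rp_of_mem (cs := D.cs) (hN := D.nsys) ht).mul hm

theorem x_of_U {i : D.I} {n : Y} (hn : D.Rp (D.cs.simple i) n) {a : k} (h : n * D.x (sr i) a * n⁻¹ ∈ D.U) : a = 0 := by
  have h1 := D.conj_mem hn (rt D i) (D.x_mem (rt D i) a)
  rw [Datum.act, rep_simple_sr] at h1
  have h2 := D.eq_one_of_mem_U_of_mem_UN h (RGD.le_Sup (S := OppDec.Neg D.cs D.h)
    ⟨(rt D i).neg, neg_nonpos.2 (sr_nonneg i)⟩ h1)
  rwa [mul_inv_eq_one, mul_eq_left, D.x_eq_one_iff (rt D i)] at h2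

theorem uniq3 {i : D.I} {n n' : Y} (hn : D.Rp (D.cs.simple i) n) (hn' : D.Rp (D.cs.simple i) n') {a b a' b' : k}
    (e : D.x (sr i) a * n * D.x (sr i) b = D.x (sr i) a' * n' * D.x (sr i) b') : n = n' ∧ a = a' ∧ b = b' := by
  obtain rfl := (D.eq_of_mem_UNU (xU D i a) (xU D i a') hn hn' (xU D i b) (xU D i b') e).2
  have h1 : n * D.x (sr i) (b + -b') * n⁻¹ = D.x (sr i) (-a + a') := by
    rw [D.x_add _ (rt D i), D.x_add _ (rt D i), D.x_neg (rt D i), D.x_neg (rt D i)]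
    calc _ = (D.x (sr i) a)⁻¹ * (D.x (sr i) a * n * D.x (sr i) b) * (D.x (sr i) b')⁻¹ * n⁻¹ := by group
      _ = _ := by rw [e]; group
  have h2 := x_of_U hn (h1 ▸ xU D i _)
  rw [h2, D.x_zero (rt D i), mul_one, mul_inv_cancel, eq_comm, D.x_eq_one_iff (rt D i)] at h1
  exact ⟨rfl, by linear_combination -h1, by linear_combination h2⟩

variable (D) in
/-- the representative which belongs to a coordinate -/
structure Pn (i : D.I) (u : kˣ) (n : Y) : Prop where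
  rp : D.Rp (D.cs.simple i) n
  rel : ∀ a : kˣ, n * D.x (sr i) (u * a) * n⁻¹ =
    D.x (sr i) (u * -(a⁻¹ : kˣ)) * (hh D i a⁻¹ * n) * D.x (sr i) (u * -(a⁻¹ : kˣ))

variable {i j : D.I} {u v : kˣ} {n n' m : Y} {w : D.W}

theorem Pn.unique (h : Pn D i u n) (h' : Pn D i u n') : n = n' := by
  obtain ⟨c, hc⟩ := (D.mem_T _).1 (h.rp.inv.unique h'.rp.inv)
  obtain rfl : n = D.τ c * n' := by rw [hc]; group
  have h1 := h'.rel 1
  have h2 := h.rel 1
  simp only [inv_one, map_one, one_mul] at h1 h2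
  have h3 : D.τ c * n' * D.x (sr i) (u * (1 : kˣ)) * (D.τ c * n')⁻¹ = _ :=
    (by group : _ = D.τ c * (n' * D.x (sr i) (u * (1 : kˣ)) * n'⁻¹) * (D.τ c)⁻¹).trans (by
      rw [h1, ← conj_mul, ← conj_mul, D.tor _ (rt D i)])
  have h4 := (uniq3 h.rp (by rw [τ_n h'.rp]; exact rp_T (hh_mem D i _) h'.rp) (h2.symm.trans h3)).1
  rw [eq_mul_inv_iff_mul_eq, mul_eq_left] at h4
  rw [h4, one_mul]

theorem sq_of_rel {r r' : k} (hn : D.Rp (D.cs.simple i) n) (h : ∀ a : kˣ, n * D.x (sr i) (u * a) * n⁻¹ =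
    D.x (sr i) (u * (r * (a⁻¹ : kˣ))) * (hh D i a⁻¹ * n) * D.x (sr i) (u * (r' * (a⁻¹ : kˣ)))) :
    n⁻¹ = hh D i (-1) * n ∧ r = r' := by
  have h1 := congrArg Inv.inv (h 1)
  have h2 := h (-1)
  simp only [inv_one, map_one, one_mul, _root_.mul_inv_rev, inv_inv, ← D.x_neg (rt D i), Units.val_one, mul_one, inv_neg,
    Units.val_neg, mul_neg] at h1 h2
  obtain ⟨h3, h4, -⟩ := uniq3 (by simpa using hn.inv) (rp_T (hh_mem D i _) hn)
    ((mul_assoc _ _ _).trans (h1.symm.trans ((mul_assoc _ _ _).symm.trans h2)))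
  exact ⟨h3, (mul_left_cancel₀ u.ne_zero (neg_inj.1 h4)).symm⟩

theorem Pn.inv (h : Pn D i u n) : n⁻¹ = hh D i (-1) * n :=
  (sq_of_rel (r := -1) (r' := -1) h.rp fun a => by simpa only [neg_one_mul] using h.rel a).1

theorem hh_neg_sq (i : D.I) : hh D i (-1) * hh D i (-1) = 1 := by rw [← map_mul, neg_mul_neg, one_mul, map_one]

theorem Pn.sq (h : Pn D i u n) : n * n = hh D i (-1) := by
  rw [← mul_right_inj (hh D i (-1)), hh_neg_sq, ← mul_assoc, ← h.inv, inv_mul_cancel]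

theorem hh_xs (i : D.I) (a : kˣ) (c : k) : hh D i a * D.x (sr i) c = D.x (sr i) (a * a * c) * hh D i a := by
  rw [← mul_inv_eq_iff_eq_mul, hh_x (rt D i), pairing_sr, D.h.diag, zpow_two, Units.val_mul]

theorem exists_pn (i : D.I) (u : kˣ) : ∃ n, Pn D i u n := by
  obtain ⟨c₁, c₂, h1, -, t, ht, h⟩ := D.rank_one i
  have h0 := rp_T ht (rp_simple D.cs D.nsys i)
  obtain ⟨e, he, h2⟩ := D.nact h0 (rt D i)
  rw [Datum.act, rep_simple_sr] at h2
  generalize hn₀ : t * D.n i = n₀ at h0 h2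
  lift e to kˣ using he.isUnit
  have hn := rp_T (hh_mem D i (e * u)) h0
  have h3 : ∀ a : kˣ, hh D i (e * u) * n₀ * D.x (sr i) (u * a) * (hh D i (e * u) * n₀)⁻¹ =
      D.x (sr i) (u * (e * c₁ * (a⁻¹ : kˣ))) * (hh D i a⁻¹ * (hh D i (e * u) * n₀)) *
        D.x (sr i) (u * (e * c₂ * (a⁻¹ : kˣ))) := fun a => by
    have h4 := h (e * (u * a))
    rw [← hh_apply, mul_assoc _ (_ * t), mul_assoc _ t, hn₀, Units.val_mul, Units.val_mul, ← h2] at h4
    have h5 : n₀ * (hh D i (e * u))⁻¹ = hh D i (e * u) * n₀ := by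
      rw [← map_inv, ← mul_inv_eq_iff_eq_mul, n_hh h0, inv_inv]
    have h6 : ∀ c : k, hh D i (e * u) * D.x (sr i) (c * ((e * (u * a))⁻¹ : kˣ)) * (hh D i (e * u))⁻¹ =
        D.x (sr i) (u * (e * c * (a⁻¹ : kˣ))) := fun c => by
      rw [hh_xs, mul_inv_cancel_right]
      congr 1
      simp only [Units.val_mul, Units.val_inv_eq_inv_val]
      field_simp
    have h7 : hh D i (e * u) * (hh D i (e * (u * a))⁻¹ * n₀) * (hh D i (e * u))⁻¹ =
        hh D i a⁻¹ * (hh D i (e * u) * n₀) := by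
      rw [mul_assoc, mul_assoc, h5, ← mul_assoc, ← map_mul, ← mul_assoc e, _root_.mul_inv_rev, mul_comm a⁻¹,
        mul_inv_cancel_left]
    calc _ = hh D i (e * u) * (n₀ * D.x (sr i) (u * a) * n₀⁻¹) * (hh D i (e * u))⁻¹ := by group
      _ = _ := by rw [h4, ← conj_mul, ← conj_mul, h6, h6, h7]
  generalize hh D i (e * u) * n₀ = n at hn h3
  obtain ⟨h4, h5⟩ := sq_of_rel hn h3
  rw [← h5] at h3
  have h6 := mul_ne_zero e.ne_zero h1
  generalize (e : k) * c₁ = r at h3 h6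
  lift r to kˣ using h6.isUnit
  have h7 := h3 1
  have h8 := h3 r
  simp only [inv_one, map_one, one_mul, Units.val_one, mul_one, Units.mul_inv] at h7 h8
  have h9 : n * n = hh D i (-1) := by
    rw [← mul_right_inj (hh D i (-1)), hh_neg_sq, ← mul_assoc, ← h4, inv_mul_cancel]
  have h10 := hh_xs i (-1) (u : k)
  rw [← Units.val_mul, neg_mul_neg, one_mul, Units.val_one, one_mul] at h10
  have h11 : D.x (sr i) 0 * n * D.x (sr i) u =
      D.x (sr i) (u * r + u) * (hh D i r⁻¹ * n * hh D i (-1)) * D.x (sr i) u := by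
    rw [D.x_zero (rt D i), one_mul, D.x_add _ (rt D i), mul_inv_eq_iff_eq_mul.1 h7]
    calc _ = D.x (sr i) (u * r) * (n * D.x (sr i) (u * r) * n⁻¹) * (n * n) := by group
      _ = D.x (sr i) (u * r) * D.x (sr i) u * (hh D i r⁻¹ * n) * (D.x (sr i) u * hh D i (-1)) := by rw [h8, h9]; group
      _ = _ := by rw [← h10]; group
  have h12 := (uniq3 hn ((rp_T (hh_mem D i _) hn).mul_mem_right (hh_mem D i _)) h11).2.1
  have h13 : (r : k) = -1 := mul_left_cancel₀ u.ne_zero (by linear_combination -h12)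
  exact ⟨n, hn, fun a => by rw [h3, h13, neg_one_mul]⟩

theorem Pn.conj (h : Pn D j v n) (hm : D.Rp w m) (hw : D.act w (sr j) = sr i)
    (hx : ∀ a : k, m * D.x (sr j) (v * a) * m⁻¹ = D.x (sr i) (u * a)) : Pn D i u (m * n * m⁻¹) where
  rp := by
    have := (hm.mul h.rp).mul hm.inv
    rwa [← D.rf_act, hw, D.rf_sr] at this
  rel a := by rw [← hx, ← hx, ← rp_hh hm hw, conj_inv, conj_mul, conj_mul, conj_mul, conj_mul, conj_mul, h.rel]

theorem Pn.scale (h : Pn D i u n) (e : kˣ) : Pn D i (e * u) (hh D i e * n) := by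
  obtain ⟨c, rfl⟩ := chr_surj (D.wt_ne_zero (rt D i)) e
  rw [← τ_n h.rp]
  exact h.conj (rp_of_mem (D.τ_mem c)) (by rw [Datum.act, map_one, Module.End.one_apply]) fun a => by
    rw [D.tor _ (rt D i), Units.val_mul, mul_assoc]

theorem Pn.conj_eq (h : Pn D j v n) (h' : Pn D i u n') (hm : D.Rp w m) (hw : D.act w (sr j) = sr i) {e : kˣ}
    (hx : ∀ a : k, m * D.x (sr j) (v * a) * m⁻¹ = D.x (sr i) (u * (e * a))) : m * n * m⁻¹ = hh D i e * n' :=
  (h.conj hm hw fun a => by rw [hx, Units.val_mul, mul_left_comm, mul_assoc]).unique (h'.scale e)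

theorem exists_scal (hm : D.Rp w m) (hw : D.act w (sr j) = sr i) (v u : kˣ) :
    ∃ e : kˣ, ∀ a : k, m * D.x (sr j) (v * a) * m⁻¹ = D.x (sr i) (u * (e * a)) := by
  obtain ⟨c, hc, h⟩ := D.nact hm (rt D j)
  lift c to kˣ using hc.isUnit
  refine ⟨u⁻¹ * c * v, fun a => ?_⟩
  rw [h, hw]
  congr 1
  simp only [Units.val_mul, Units.val_inv_eq_inv_val]
  field_simp

/-- `(x n) ^ 3 = 1` -/
theorem Pn.cube (h : Pn D i u n) : D.x (sr i) u * n * (D.x (sr i) u * n) * (D.x (sr i) u * n) = 1 := by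
  have h1 := h.rel (-1)
  simp only [inv_neg, inv_one, Units.val_neg, Units.val_one, neg_neg, mul_one, mul_neg, D.x_neg (rt D i), ← h.inv] at h1
  have h2 := hh_xs i (-1) (u : k)
  rw [← Units.val_mul, neg_mul_neg, one_mul, Units.val_one, one_mul] at h2
  have h3 : hh D i (-1) * n = n * hh D i (-1) := by rw [← h.sq, mul_assoc]
  have h4 : D.x (sr i) u * n⁻¹ * (D.x (sr i) u * n) * (D.x (sr i) u * n⁻¹) = 1 := by
    rw [← mul_assoc, ← mul_assoc, ← h1]; group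
  rw [← h4, h.inv]
  have e1 : ∀ z, hh D i (-1) * (D.x (sr i) u * z) = D.x (sr i) u * (hh D i (-1) * z) := fun z => by
    rw [← mul_assoc, h2, mul_assoc]
  have e2 : ∀ z, hh D i (-1) * (n * z) = n * (hh D i (-1) * z) := fun z => by rw [← mul_assoc, h3, mul_assoc]
  simp only [mul_assoc, e1, e2, h3, hh_neg_sq, mul_one]

theorem Pn.mapF (h : Pn D i u n) (hq : D.QS)
    (hx : ∀ a : k, F (D.x (sr i) (u * a)) = D.x (sr (D.σ i)) (v * a ^ p ^ D.ex (sr i))) : Pn D (D.σ i) v (F n) where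
  rp := hq.Fw_simple i ▸ Datum.Rp.mapF h.rp
  rel a := by
    obtain ⟨b, rfl⟩ := exists_zpow_eq (n := (p : ℤ) ^ D.ex (sr i)) (D.q_pos _).ne' a
    have h1 := congrArg F (h.rel b)
    rw [map_mul, map_mul, map_mul, map_mul, map_mul, map_inv, hx, hx, hh_apply, D.F_τ, mon_coch, ← D.cor_sr,
      D.Mx_cor (rt D i), hq.g_sr, D.cor_sr, coch_zsmul, ← hh_apply, neg_pow, neg_one_pow_char_pow] at h1
    simpa only [← Nat.cast_pow, zpow_natCast, Units.val_pow_eq_pow_val, inv_pow, neg_one_mul,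
      Units.val_inv_eq_inv_val] using h1

end Cfsg.Agent.KZ.Mts
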