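import Cfsg.Agent.KZ.Mts.Ext
import Cfsg.Agent.KZ.Lie.ApiF
import Mathlib.Algebra.Category.Grp.Injective

/-!
# Central labels come from linear characters (helper2)

`boxExLin : BoxExLin` and `boxApi : BoxApi`.
-/

set_option autoImplicit false
set_option linter.unusedSectionVars false
set_option maxHeartbeats 400000

namespace Cfsg.Agent.KZ.Mts

open CoxeterSystem Cfsg.Agent.DL Cfsg.Agent.Nodes.Reps Cfsg.Agent.Nodes.BNOf Cfsg.Agent.Nodes
  Cfsg.Agent.ChevalleyStructure.CoxeterGeom Cfsg.Agent.Tits.Roots Matrix Cfsg.Agent.KZ.Lie Cfsg.Agent.DL.PP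
  Cfsg.Agent.DL.Uni Cfsg.Agent.DL.Mk

theorem exists_J {K : Type} [Field K] {ζ : Kˣ} {n : ℕ} (hn : n ≠ 0) (hζ : IsPrimitiveRoot ζ n) :
    ∃ J : Kˣ →* ℂˣ, IsPrimitiveRoot (J ζ) n := by
  have h0 := Complex.isPrimitiveRoot_exp n hn
  have hξ : IsPrimitiveRoot (h0.isUnit hn).unit n := IsPrimitiveRoot.coe_units_iff.1 h0
  let : DivisibleBy (Additive ℂˣ) ℤ := divisibleByOfSMulRightSurj _ _ fun h a => exists_zpow_eq h a.toMul
  obtain ⟨J, hJ⟩ := (Module.Baer.of_divisible (Additive ℂˣ)).extension_property_addMonoidHom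
    (Subgroup.zpowers ζ).subtype.toAdditive Subtype.val_injective ((Subgroup.subtype _).toAdditive.comp
      (hξ.zmodEquivZPowers.toAddMonoidHom.comp hζ.zmodEquivZPowers.symm.toAddMonoidHom))
  have h1 := DFunLike.congr_fun hJ (hζ.zmodEquivZPowers (1 : ℤ))
  simp only [AddMonoidHom.comp_apply, AddEquiv.coe_toAddMonoidHom, AddEquiv.symm_apply_apply] at h1
  simp only [IsPrimitiveRoot.zmodEquivZPowers_apply_coe_int, zpow_one] at h1
  exact ⟨J.toMultiplicative, (show J.toMultiplicative ζ = _ from h1) ▸ hξ⟩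

section Lift

variable {R : Type} [Fintype R] [DecidableEq R] (K : Type) [Field K] (M : ℤ) (x : R → ℤ)

/-- `B` fixes `x` modulo `M` -/
def Good (B : Matrix R R ℤ) : Prop := ∀ v, M ∣ (B *ᵥ v) ⬝ᵥ x - v ⬝ᵥ x

/-- the last row of the lifted matrix -/
def bt (B : Matrix R R ℤ) : R → ℤ := fun j => (x ᵥ* B - x) j / M

/-- the lift of a monomial map -/
def lift (B : Matrix R R ℤ) : Monoid.End ((R → Kˣ) × Kˣ) :=
  ((mon B).comp (MonoidHom.fst _ _)).prod (MonoidHom.snd _ _ * (chr (bt M x B)).comp (MonoidHom.fst _ _))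

/-- the lift of a cocharacter -/
def hv (v : R → ℤ) : Kˣ →* (R → Kˣ) × Kˣ := (coch v).prod (zpowGroupHom (v ⬝ᵥ x / M))

variable {K M x} {B B' : Matrix R R ℤ}

theorem lift_apply (a : (R → Kˣ) × Kˣ) : lift K M x B a = (mon B a.1, a.2 * chr (bt M x B) a.1) := rfl

theorem hv_apply (v : R → ℤ) (a : Kˣ) : hv K M x v a = (coch v a, a ^ (v ⬝ᵥ x / M)) := rfl

theorem Good.bt (h : Good M x B) : M • bt M x B = x ᵥ* B - x := by
  funext j
  refine Int.mul_ediv_cancel' ?_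
  have := h (Pi.single j 1)
  rwa [dotProduct_comm, dotProduct_mulVec, dotProduct_single, single_dotProduct, mul_one, one_mul] at this

theorem bt_eq (hM : M ≠ 0) {b : R → ℤ} (h : M • b = x ᵥ* B - x) : bt M x B = b := by
  funext j
  rw [bt, ← h]
  exact Int.mul_ediv_cancel_left _ hM

theorem good_one : Good M x 1 := fun v => by simp

theorem Good.mul (h : Good M x B) (h' : Good M x B') : Good M x (B * B') := fun v => by
  have := dvd_add (h (B' *ᵥ v)) (h' v)
  rwa [sub_add_sub_cancel, mulVec_mulVec] at this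

theorem Good.pow (h : Good M x B) (n : ℕ) : Good M x (B ^ n) := by
  induction n with
  | zero => exact good_one
  | succ n ih => exact pow_succ B n ▸ ih.mul h

theorem lift_one (hM : M ≠ 0) : lift K M x 1 = 1 := MonoidHom.ext fun a => by
  refine (lift_apply a).trans ?_
  rw [mon_one, bt_eq hM (b := 0) (by simp), chr_zero, mul_one]
  rfl

theorem lift_mul (hM : M ≠ 0) (h : Good M x B) (h' : Good M x B') : lift K M x (B * B') = lift K M x B * lift K M x B' :=
  MonoidHom.ext fun a => by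
    have h1 : bt M x (B * B') = bt M x B' + bt M x B ᵥ* B' := bt_eq hM (by
      rw [smul_add, ← smul_vecMul, h.bt, h'.bt, sub_vecMul, vecMul_vecMul]
      abel)
    refine (lift_apply a).trans (?_ : _ = lift K M x B (lift K M x B' a))
    simp only [lift_apply, mon_mul, h1, chr_add, chr_mon, mul_assoc]

theorem lift_pow (hM : M ≠ 0) (h : Good M x B) (n : ℕ) : lift K M x (B ^ n) = lift K M x B ^ n := by
  induction n with
  | zero => exact lift_one hM
  | succ n ih => rw [pow_succ, pow_succ, lift_mul hM (h.pow n) h, ih]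

theorem lift_hv (hM : M ≠ 0) (h : Good M x B) {v : R → ℤ} (h' : M ∣ v ⬝ᵥ x) (a : Kˣ) :
    lift K M x B (hv K M x v a) = hv K M x (B *ᵥ v) a := by
  obtain ⟨n, hn⟩ := h'
  have h1 : (B *ᵥ v) ⬝ᵥ x = M * (n + bt M x B ⬝ᵥ v) := by
    rw [mul_add, ← hn, ← smul_eq_mul, ← smul_dotProduct, h.bt, sub_dotProduct, ← dotProduct_mulVec,
      dotProduct_comm x, dotProduct_comm x]
    ring
  rw [lift_apply, hv_apply, hv_apply, mon_coch, chr_coch, h1, hn, Int.mul_ediv_cancel_left _ hM,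
    Int.mul_ediv_cancel_left _ hM, _root_.zpow_add]
  rfl

theorem hv_smul {v : R → ℤ} (h : M ∣ v ⬝ᵥ x) (n : ℤ) (a : Kˣ) : hv K M x (n • v) a = hv K M x v (a ^ n) := by
  rw [hv_apply, hv_apply, coch_zsmul, smul_dotProduct, smul_eq_mul, Int.mul_ediv_assoc _ h, _root_.zpow_mul]

end Lift

variable {p : ℕ} [Fact p.Prime] {k : Type} [Field k] [CharP k p] [IsAlgClosed k] {Y : Type} [Group Y] {N : Type}
  [Fintype N] [DecidableEq N] {ρ : Y →* GL N k} {F : MulAut Y} {G : Subgroup Y} {D : Datum p ρ F G}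

/-- the covering torus attached to a central label -/
noncomputable def cv {M : ℤ} {x : D.R → ℤ} (hM : M ≠ 0) (hW : ∀ w, Good M x (D.Wm w)) (hF : Good M x D.Mx)
    (hc : ∀ r, D.Rt r → M ∣ D.cor r ⬝ᵥ x) : Cv D ((D.R → kˣ) × kˣ) where
  π := D.τ.comp (MonoidHom.fst _ _)
  act := MonoidHom.mk (OneHom.mk (fun w => lift k M x (D.Wm w)) (by rw [D.Wm_one, lift_one hM])) fun v w => by
    simp only [D.Wm_mul, lift_mul hM (hW v) (hW w)]
  h r := hv k M x (D.cor r)
  Φ := lift k M x D.Mx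
  mem a := D.τ_mem _
  surj t ht := by
    obtain ⟨c, rfl⟩ := (D.mem_T t).1 ht
    exact ⟨(c, 1), rfl⟩
  π_act w m hm a := (D.conj_τ hm a.1).symm
  π_h i c := by rw [D.cor_sr]; rfl
  act_h w r c hr := by rw [D.cor_act w hr]; exact lift_hv hM (hW w) (hc r hr) c
  h_neg r c hr := by rw [D.cor_neg hr, ← neg_one_smul ℤ, hv_smul (hc r hr), _root_.zpow_neg_one, map_inv]
  act_s i a e he := by
    obtain rfl : chr (D.wt (sr i)) a.1 = e := Units.ext ((D.χ_τ _ _).symm.trans he)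
    have h1 := hc _ (rt D i)
    rw [D.cor_sr] at h1 ⊢
    have h2 : bt M x (D.Wm (D.cs.simple i)) = (-(D.cw i ⬝ᵥ x / M)) • D.wt (sr i) := bt_eq hM (by
      rw [D.Wm_simple, vecMul_sub, vecMul_one, vecMul_vecMulVec, smul_smul, mul_neg, Int.mul_ediv_cancel' h1,
        dotProduct_comm, neg_smul]
      abel)
    show lift k M x _ a = _
    rw [lift_apply, hv_apply, h2, chr_zsmul, _root_.zpow_neg, ApiE.mon_simple]
    rfl
  π_Φ a := (D.F_τ a.1).symm
  Φ_act w a := by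
    show (lift k M x D.Mx * lift k M x (D.Wm w)) a = (lift k M x (D.Wm (D.Fw w)) * lift k M x D.Mx) a
    rw [← lift_mul hM hF (hW w), ← lift_mul hM (hW _) hF, D.Mx_Wm]
  Φ_h r c hr := by
    refine (lift_hv hM hF (hc r hr) c).trans ?_
    rw [D.Mx_cor hr, hv_smul (hc _ (D.g_root r hr)), ← Nat.cast_pow, zpow_natCast]
  Φ_ker a h := by
    have h1 : a.1 = 1 := D.τ_inj (h.trans (map_one _).symm)
    refine (lift_apply a).trans ?_
    rw [h1, map_one, map_one, mul_one, ← h1]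

theorem tele {A : Type} [CommGroup A] (L : Monoid.End A) (u : A) (d : ℕ) :
    (∏ i ∈ Finset.range d, (L ^ i) u)⁻¹ * L (∏ i ∈ Finset.range d, (L ^ i) u) = u⁻¹ * (L ^ d) u := by
  have h := Finset.prod_range_succ' (fun i => (L ^ i) u) d
  rw [Finset.prod_range_succ] at h
  rw [map_prod, inv_mul_eq_iff_eq_mul, mul_left_comm, eq_inv_mul_iff_mul_eq, h, mul_comm]
  simp only [pow_succ']
  rfl

theorem exLin_qs (hq : D.QS) : ExLin D := by
  intro d e ζ L hζ c hc hx
  have h1 := Nat.one_lt_pow L.e_pos.ne' (Fact.out : p.Prime).one_lt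
  have h2 : p ^ e - 1 ≠ 0 := by omega
  have : NeZero (p ^ e - 1) := ⟨h2⟩
  have hM : ((p ^ e - 1 : ℕ) : ℤ) ≠ 0 := Nat.cast_ne_zero.2 h2
  obtain ⟨J, hJ⟩ := exists_J h2 hζ
  have h3 : ∀ j, ∃ i : ℕ, J ζ ^ i = c j := fun j => by
    obtain ⟨i, -, hi⟩ := hJ.eq_pow_of_mem_rootsOfUnity (ξ := c j) (by
      rw [mem_rootsOfUnity, ← mul_left_inj (c j), ← pow_succ, Nat.sub_add_cancel h1.le, one_mul, ← chr_single j c]
      exact hx.pow L _)
    exact ⟨i, hi⟩
  choose x0 hx0 using h3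
  obtain ⟨x, h4⟩ : ∃ x : D.R → ℤ, ∀ v, chr v c = J ζ ^ (v ⬝ᵥ x) := ⟨fun j => x0 j, fun v => by
    rw [← show coch (fun j => (x0 j : ℤ)) (J ζ) = c from funext fun j => (zpow_natCast _ _).trans (hx0 j), chr_coch]
    rfl⟩
  have h5 : ∀ B : Matrix D.R D.R ℤ, (∀ v, chr (B *ᵥ v) c = chr v c) → Good ((p ^ e - 1 : ℕ) : ℤ) x B := fun B h v => by
    rw [← hJ.zpow_eq_one_iff_dvd, _root_.zpow_sub, ← h4, ← h4, h, mul_inv_cancel]
  have hW := fun w => h5 _ (ApiE.rel_of_cen hc w)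
  have hF := h5 D.Mx fun v => by simpa only [D.Wm_one, one_mul] using hx v
  have h6 : ∀ r, D.Rt r → ((p ^ e - 1 : ℕ) : ℤ) ∣ D.cor r ⬝ᵥ x := by
    rintro _ ⟨w, i, rfl⟩
    rw [← hJ.zpow_eq_one_iff_dvd, ← h4, D.cor_act_sr, ApiE.rel_of_cen hc w, hc]
  obtain ⟨δ, -, hδ⟩ := (cv hM hW hF h6).exists_δ hq
  refine ⟨J.comp ((MonoidHom.snd _ _).comp δ), fun u ⟨j, hj⟩ => ?_, fun y hy w hw v => ?_⟩
  · have h7 : u ^ p ^ j = 1 := Subtype.ext (by rw [← hj]; exact pow_orderOf_eq_one _)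
    have h8 : ((δ u).2 : k) ^ (p ^ j * 1) = 1 := by
      rw [mul_one, ← Units.val_pow_eq_pow_val, ← Prod.pow_snd, ← map_pow, h7, map_one]
      rfl
    rw [ExpChar.pow_prime_pow_mul_eq_one_iff, pow_one, Units.val_eq_one] at h8
    show J (δ u).2 = 1
    rw [h8, map_one]
  · have h7 := (hW w).mul hF
    let B := lift k ((p ^ e - 1 : ℕ) : ℤ) x (D.Wm w * D.Mx)
    have h8 : ∀ i, (F ^ i) (y * D.τ (coch v ζ) * y⁻¹) = y * D.τ ((B ^ i) (coch v ζ, 1)).1 * y⁻¹ := fun i => by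
      induction i with
      | zero => rfl
      | succ i ih => rw [pow_succ_apply, ih, F_cj_τ hw, pow_succ']; rfl
    have h9 : ∀ n, nrm F n (y * D.τ (coch v ζ) * y⁻¹) =
        y * D.τ (∏ i ∈ Finset.range n, (B ^ i) (coch v ζ, 1)).1 * y⁻¹ := fun n => by
      induction n with
      | zero => simp [nrm_zero]
      | succ n ih => rw [nrm_succ, ih, h8, Finset.prod_range_succ, Prod.fst_mul, map_mul, conj_mul]
    have h10 := (nrm_mem L hζ hy hw v).2
    rw [h9] at h10 ⊢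
    have h11 := hδ y hy w hw _ h10
    have h12 : bt ((p ^ e - 1 : ℕ) : ℤ) x (((p : ℤ) ^ e) • 1) = x := bt_eq hM (by
      rw [vecMul_smul, vecMul_one, Nat.cast_sub h1.le, sub_smul, Nat.cast_one, one_smul, Nat.cast_pow])
    rw [lin_apply _ h10, h4]
    refine congrArg Units.val ((congrArg (fun a => J a.2) (h11.trans ((congrArg _ ?_).trans (tele B _ d)))).trans ?_)
    · exact (DFunLike.congr_fun (lift_mul hM (hW w) hF) _).symm
    · rw [← lift_pow hM h7, L.pow, lift_apply, h12, chr_coch, ← map_zpow, dotProduct_comm]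
      simp [dotProduct]

/-- **Central labels come from linear characters.** -/
theorem boxExLin : BoxExLin := by
  intro p _ k _ _ Y _ N _ _ ρ F G _ D d e ζ L hζ c hc hx
  obtain ⟨y, hy, hF, hq⟩ := D.exists_qs
  have h1 := D.rp_pr hF
  obtain ⟨μ, h2, h3⟩ := exLin_qs hq d e ζ ⟨L.d_pos, L.e_pos, fun w => by
    rw [conj_Wm, D.conj_Mx, ← mul_assoc, ← D.Wm_mul]; exact L.pow _⟩ hζ c hc (fun v => by
      have := (hx.mul (ApiE.rel_of_cen hc (D.pr (y⁻¹ * F y)))) v
      rwa [conj_Wm, D.conj_Mx, D.Wm_one, one_mul, ← mul_one (D.pr _)])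
  refine ⟨μ, h2, fun z hz w hw v => ?_⟩
  have h4 := h3 (z * y⁻¹) (mul_mem hz (inv_mem hy)) (w * (D.pr (y⁻¹ * F y))⁻¹) (by
    convert (D.conj_rp_iff hy hF).2 (hw.mul h1.inv) using 1
    rw [map_mul, map_inv]
    group) v
  rw [← h4, D.conj_tau]
  congr 2
  group

/-- **The combinatorial description of the Deligne-Lusztig characters.** -/
theorem boxApi : BoxApi := boxApi_of boxExLin

end Cfsg.Agent.KZ.Mts
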