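import Mathlib

/-!
# Matsumoto's construction of central extensions, abstract part (helper2)
-/

set_option autoImplicit false
set_option maxHeartbeats 400000

namespace Cfsg.Agent.KZ.Mts

variable {Y M : Type} [Group Y] [Group M] {S : Set (Y × M)}

/-- left operators -/
structure Op (S : Set (Y × M)) where
  γ : Y
  κ : Y → M
  mem : ∀ g m, (γ * g, κ g * m) ∈ S ↔ (g, m) ∈ S

/-- the permutation of an operator -/
def Op.L (o : Op S) : Equiv.Perm S where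
  toFun s := ⟨(o.γ * s.1.1, o.κ s.1.1 * s.1.2), (o.mem _ _).2 s.2⟩
  invFun s := ⟨(o.γ⁻¹ * s.1.1, (o.κ (o.γ⁻¹ * s.1.1))⁻¹ * s.1.2), (o.mem _ _).1 (by simpa using s.2)⟩
  left_inv s := Subtype.ext (by simp)
  right_inv s := Subtype.ext (by simp)

theorem Op.L_apply (o : Op S) (s : S) : (o.L s).1 = (o.γ * s.1.1, o.κ s.1.1 * s.1.2) := rfl

/-- the two operators commute from opposite sides -/
def Op.Cm (o o' : Op S) : Prop := ∀ g m, (g, m) ∈ S →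
  o.κ (g * o'.γ⁻¹) * (m * (o'.κ g⁻¹)⁻¹) = o.κ g * m * (o'.κ (o.γ * g)⁻¹)⁻¹

theorem Op.Cm.symm (hS : ∀ q ∈ S, q⁻¹ ∈ S) {o o' : Op S} (h : o.Cm o') : o'.Cm o := fun g m hg => by
  have h1 := congrArg Inv.inv (h g⁻¹ m⁻¹ (hS _ hg))
  simp only [mul_inv_rev, inv_inv, mul_assoc] at h1 ⊢
  exact h1.symm

/-- the setting -/
structure Sys (S : Set (Y × M)) (G : Subgroup Y) where
  inv : ∀ q ∈ S, q⁻¹ ∈ S
  one : 1 ∈ S
  memG : ∀ q ∈ S, q.1 ∈ G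
  Gen : Set (Op S)
  cm : ∀ o ∈ Gen, ∀ o' ∈ Gen, o.Cm o'
  gen : G ≤ Subgroup.closure (Op.γ '' Gen)
  fib : ∀ g m m', (g, m) ∈ S → (g, m') ∈ S → ∃ o ∈ Gen, o.γ = 1 ∧ o.κ g * m = m'

namespace Sys

variable {G : Subgroup Y} (Z : Sys S G)

/-- inversion -/
def J : Equiv.Perm S := Function.Involutive.toPerm (fun s => ⟨s.1⁻¹, Z.inv _ s.2⟩) fun _ => Subtype.ext (inv_inv _)

theorem J_apply (s : S) : (Z.J s).1 = s.1⁻¹ := rfl

theorem J_J (s : S) : Z.J (Z.J s) = s := Subtype.ext (inv_inv _)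

/-- the base point -/
def s0 : S := ⟨1, Z.one⟩

theorem J_s0 : Z.J Z.s0 = Z.s0 := Subtype.ext inv_one

/-- the extension -/
def E : Subgroup (Equiv.Perm S) := Subgroup.closure (Op.L '' Z.Gen)

theorem L_mem {o : Op S} (h : o ∈ Z.Gen) : o.L ∈ Z.E := Subgroup.subset_closure ⟨o, h, rfl⟩

theorem comm {φ ψ : Equiv.Perm S} (hφ : φ ∈ Z.E) (hψ : ψ ∈ Z.E) (s : S) : φ (Z.J (ψ (Z.J s))) = Z.J (ψ (Z.J (φ s))) := by
  have h1 : Z.J⁻¹ = Z.J := rfl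
  suffices h : Commute φ (MulAut.conj Z.J ψ) from DFunLike.congr_fun h.eq s
  induction hφ, hψ using Subgroup.closure_induction₂ with
  | mem _ _ h h' =>
    obtain ⟨o, ho, rfl⟩ := h
    obtain ⟨o', ho', rfl⟩ := h'
    refine Equiv.ext fun s => Subtype.ext (Prod.ext ?_ ?_)
    · simp [h1, Op.L_apply, J_apply, mul_assoc]
    · simpa [h1, Op.L_apply, J_apply] using Z.cm o ho o' ho' _ _ s.2
  | one_left => exact Commute.one_left _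
  | one_right => rw [map_one]; exact Commute.one_right _
  | mul_left _ _ _ _ _ _ h h' => exact h.mul_left h'
  | mul_right _ _ _ _ _ _ h h' => rw [map_mul]; exact h.mul_right h'
  | inv_left _ _ _ _ h => exact h.inv_left
  | inv_right _ _ _ _ h => rw [map_inv]; exact h.inv_right

/-- the element of `G` below a permutation -/
def P (φ : Equiv.Perm S) : Y := (φ Z.s0).1.1

theorem P_mem (φ : Equiv.Perm S) : Z.P φ ∈ G := Z.memG _ (φ Z.s0).2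

theorem P_L (o : Op S) : Z.P o.L = o.γ := mul_one _

theorem fst {φ : Equiv.Perm S} (hφ : φ ∈ Z.E) (s : S) : (φ s).1.1 = Z.P φ * s.1.1 := by
  suffices h : ∃ γ, ∀ s, (φ s).1.1 = γ * s.1.1 by
    obtain ⟨γ, h⟩ := h
    rw [h, P, h]
    exact congrArg (· * _) (mul_one γ).symm
  induction hφ using Subgroup.closure_induction with
  | mem _ h =>
    obtain ⟨o, -, rfl⟩ := h
    exact ⟨o.γ, fun _ => rfl⟩
  | one => exact ⟨1, fun s => (one_mul _).symm⟩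
  | mul _ _ _ _ h h' =>
    obtain ⟨γ, h⟩ := h
    obtain ⟨γ', h'⟩ := h'
    exact ⟨γ * γ', fun s => by rw [Equiv.Perm.mul_apply, h, h', mul_assoc]⟩
  | inv φ _ h =>
    obtain ⟨γ, h⟩ := h
    exact ⟨γ⁻¹, fun s => by rw [eq_inv_mul_iff_mul_eq, ← h]; simp⟩

theorem P_mul {φ : Equiv.Perm S} (hφ : φ ∈ Z.E) (ψ : Equiv.Perm S) : Z.P (φ * ψ) = Z.P φ * Z.P ψ := Z.fst hφ _

theorem P_one : Z.P 1 = 1 := rfl

theorem P_inv {φ : Equiv.Perm S} (hφ : φ ∈ Z.E) : Z.P φ⁻¹ = (Z.P φ)⁻¹ := by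
  rw [eq_inv_iff_mul_eq_one, ← Z.P_mul (inv_mem hφ), inv_mul_cancel, P_one]

theorem P_surj {g : Y} (hg : g ∈ G) : ∃ φ ∈ Z.E, Z.P φ = g := by
  have h := Z.gen hg
  clear hg
  induction h using Subgroup.closure_induction with
  | mem _ h =>
    obtain ⟨o, ho, rfl⟩ := h
    exact ⟨_, Z.L_mem ho, Z.P_L o⟩
  | one => exact ⟨1, one_mem _, rfl⟩
  | mul _ _ _ _ h h' =>
    obtain ⟨φ, hφ, rfl⟩ := h
    obtain ⟨ψ, hψ, rfl⟩ := h'
    exact ⟨_, mul_mem hφ hψ, Z.P_mul hφ ψ⟩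
  | inv _ _ h =>
    obtain ⟨φ, hφ, rfl⟩ := h
    exact ⟨_, inv_mem hφ, Z.P_inv hφ⟩

theorem trans (s : S) : ∃ φ ∈ Z.E, φ Z.s0 = s := by
  obtain ⟨φ, hφ, h⟩ := Z.P_surj (Z.memG _ s.2)
  obtain ⟨o, ho, h1, h2⟩ := Z.fib s.1.1 (φ Z.s0).1.2 s.1.2 (by rw [← h]; exact (φ Z.s0).2) s.2
  refine ⟨o.L * φ, mul_mem (Z.L_mem ho) hφ, Subtype.ext ?_⟩
  rw [Equiv.Perm.mul_apply, Op.L_apply, h1, one_mul, show (φ Z.s0).1.1 = s.1.1 from h, h2]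

theorem ext {φ ψ : Equiv.Perm S} (hφ : φ ∈ Z.E) (hψ : ψ ∈ Z.E) (h : φ Z.s0 = ψ Z.s0) : φ = ψ := Equiv.ext fun s => by
  obtain ⟨η, hη, e⟩ := Z.trans (Z.J s)
  have h1 := Z.comm hφ hη Z.s0
  have h2 := Z.comm hψ hη Z.s0
  rw [J_s0, e, J_J] at h1 h2
  rw [h1, h2, h]

theorem lift {f : S → S} (hf : ∀ o ∈ Z.Gen, ∃ o' ∈ Z.Gen, ∀ s, f (o.L s) = o'.L (f s)) {φ : Equiv.Perm S} (hφ : φ ∈ Z.E) :
    ∃ ψ ∈ Z.E, ∀ s, f (φ s) = ψ (f s) := by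
  induction hφ using Subgroup.closure_induction with
  | mem _ h =>
    obtain ⟨o, ho, rfl⟩ := h
    obtain ⟨o', ho', h⟩ := hf o ho
    exact ⟨_, Z.L_mem ho', h⟩
  | one => exact ⟨1, one_mem _, fun _ => rfl⟩
  | mul _ _ _ _ h h' =>
    obtain ⟨φ, hφ, h⟩ := h
    obtain ⟨ψ, hψ, h'⟩ := h'
    exact ⟨_, mul_mem hφ hψ, fun s => by rw [Equiv.Perm.mul_apply, h, h', Equiv.Perm.mul_apply]⟩
  | inv φ _ h =>
    obtain ⟨ψ, hψ, h⟩ := h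
    exact ⟨_, inv_mem hψ, fun s => by rw [Equiv.Perm.eq_inv_iff_eq, ← h]; simp⟩

end Sys

end Cfsg.Agent.KZ.Mts
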