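import Mathlib

/-!
# The rank one identities of Matsumoto's construction (helper2)
-/

set_option autoImplicit false
set_option maxHeartbeats 400000

namespace Cfsg.Agent.KZ.Mts

variable {k M : Type} [Field k] [Group M] (H : kˣ →* M) (ν : M)

open Classical in
/-- the multiplier on a long cell -/
noncomputable def kk (c : k) : M := if h : c = 0 then ν else H (-(Units.mk0 c h)⁻¹)

theorem kk_zero : kk H ν 0 = ν := dif_pos rfl

theorem kk_ne {c : k} (h : c ≠ 0) : kk H ν c = H (-(Units.mk0 c h)⁻¹) := dif_neg h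

theorem kk_unit (c : kˣ) : kk H ν c = H (-c⁻¹) := by rw [kk_ne H ν c.ne_zero, Units.mk0_val]

variable {H ν}

theorem kk_conj {H' : kˣ →* M} {ν' m : M} (h1 : ∀ c, m * H c = H' c * m) (h2 : m * ν = ν' * m) (c : k) :
    m * kk H ν c = kk H' ν' c * m := by
  by_cases h : c = 0
  · rw [h, kk_zero, kk_zero, h2]
  · rw [kk_ne H ν h, kk_ne H' ν' h, h1]

variable (h1 : ∀ c, ν * H c = H c⁻¹ * ν) (h2 : ν * ν = H (-1))
include h1 h2

omit h1 in
theorem nu_inv : ν⁻¹ = H (-1) * ν := by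
  rw [inv_eq_iff_mul_eq_one, ← h2, ← mul_assoc, ← mul_assoc, mul_assoc, h2, ← map_mul, neg_mul_neg, one_mul, map_one]

theorem alg1 (e : kˣ) (a : k) : kk H ν a * (H e * ν)⁻¹ = ν * (kk H (H e * ν) (-((e⁻¹ : kˣ) * a)))⁻¹ := by
  by_cases ha : a = 0
  · rw [ha, mul_zero, neg_zero, kk_zero, kk_zero]
  lift a to kˣ using Ne.isUnit ha
  rw [← Units.val_mul, ← Units.val_neg, kk_unit, kk_unit, mul_inv_rev, nu_inv h2, ← map_inv, ← map_inv, h1, mul_assoc, h1,
    ← mul_assoc, ← mul_assoc, ← map_mul, ← map_mul]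
  congr 2
  ext
  simp [mul_comm]

open Classical in
theorem alg2 (e : kˣ) (a b : k) :
    (if b = 0 then ν else kk H ν (a + -(e * b⁻¹))) * ((H e * ν)⁻¹ * (kk H (H e * ν) (-b))⁻¹) =
      kk H ν a * (H e * ν)⁻¹ * (if -a = 0 then H e * ν else kk H (H e * ν) (-b + -(e * (-a)⁻¹)))⁻¹ := by
  have e1 : ∀ c z, ν * (H c * z) = H c⁻¹ * (ν * z) := fun c z => by rw [← mul_assoc, h1, mul_assoc]
  have e2 : ∀ z, ν * (ν * z) = H (-1) * z := fun z => by rw [← mul_assoc, h2]
  have e3 : ∀ c d z, H c * (H d * z) = H (c * d) * z := fun c d z => by rw [← mul_assoc, map_mul]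
  have e4 := nu_inv h2
  have he := e.ne_zero
  by_cases ha : a = 0 <;> by_cases hb : b = 0
  · rw [ha, hb, neg_zero, if_pos rfl, if_pos rfl, kk_zero, kk_zero, mul_assoc]
  · have h3 : a + -(e * b⁻¹) ≠ 0 := by simp [ha, hb]
    rw [if_neg hb, kk_ne _ _ h3, kk_ne _ _ (neg_ne_zero.2 hb), if_pos (neg_eq_zero.2 ha), show kk H ν a = ν by
      rw [ha, kk_zero]]
    simp only [mul_inv_rev, e4, ← map_inv, mul_assoc, e1, e2, e3, h1, h2, ← map_mul]
    congr 2
    ext
    simp [ha]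
    field_simp
  · have h3 : -b + -(e * (-a)⁻¹) ≠ 0 := by simp [ha, hb]
    rw [if_pos hb, if_neg (neg_ne_zero.2 ha), kk_ne _ _ h3, kk_ne _ _ ha, show kk H (H e * ν) (-b) = H e * ν by
      rw [hb, neg_zero, kk_zero]]
    simp only [mul_inv_rev, e4, ← map_inv, mul_assoc, e1, e2, e3, h1, h2, ← map_mul]
    congr 2
    ext
    simp [hb]
    field_simp
  rw [if_neg hb, if_neg (neg_ne_zero.2 ha), kk_ne _ _ ha, kk_ne _ _ (neg_ne_zero.2 hb)]
  by_cases h3 : a * b = e
  · rw [show a + -(e * b⁻¹) = 0 by rw [← h3]; field_simp; ring,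
      show -b + -(e * (-a)⁻¹) = 0 by rw [← h3]; field_simp; ring, kk_zero, kk_zero]
    simp only [mul_inv_rev, e4, ← map_inv, mul_assoc, e1, e2, e3, h1, h2, ← map_mul]
    congr 1
    ext
    simp [← h3]
    field_simp
  · have h4 : a * b - e ≠ 0 := sub_ne_zero.2 h3
    have h5 : a + -(e * b⁻¹) = (a * b - e) / b := by field_simp; ring
    have h6 : -b + -(e * (-a)⁻¹) = -(a * b - e) / a := by field_simp; ring
    rw [kk_ne _ _ (h5 ▸ div_ne_zero h4 hb), kk_ne _ _ (h6 ▸ div_ne_zero (neg_ne_zero.2 h4) ha)]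
    simp only [mul_inv_rev, e4, ← map_inv, mul_assoc, e1, e2, e3, h1, h2, ← map_mul]
    congr 2
    ext
    simp only [Units.val_mul, Units.val_neg, Units.val_inv_eq_inv_val, Units.val_mk0, h5, h6, Units.val_one]
    field_simp

end Cfsg.Agent.KZ.Mts
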