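import Cfsg.Agent.KZ.Mts.Mat

/-!
# The central extension of a datum by a covering torus and its connecting homomorphism (helper2)
-/

set_option autoImplicit false
set_option linter.unusedSectionVars false
set_option maxHeartbeats 400000

namespace Cfsg.Agent.KZ.Mts

open CoxeterSystem Cfsg.Agent.DL Cfsg.Agent.Nodes.Reps Cfsg.Agent.Nodes.BNOf Cfsg.Agent.Nodes
  Cfsg.Agent.ChevalleyStructure.CoxeterGeom Cfsg.Agent.Tits.Roots Matrix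

variable {p : ℕ} [Fact p.Prime] {k : Type} [Field k] [CharP k p] [IsAlgClosed k] {Y : Type} [Group Y] {N : Type}
  [Fintype N] [DecidableEq N] {ρ : Y →* GL N k} {F : MulAut Y} {G : Subgroup Y} {D : Datum p ρ F G}

namespace Cv

variable {A : Type} [CommGroup A] (C : Cv D A) (P : Pin D) {g : Y} {x x' : C.Nt}

/-- the set on which the extension acts simply transitively -/
def S : Set (Y × C.Nt) := {q | ∃ u ∈ D.U, ∃ v ∈ D.U, q.1 = u * C.pr P q.2 * v}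

variable {C P}

theorem S_G {q : Y × C.Nt} (h : q ∈ C.S P) : q.1 ∈ G := by
  obtain ⟨u, hu, v, hv, e⟩ := h
  exact e ▸ mul_mem (mul_mem (D.sbn.U_le hu) (C.rp_pr P _).mem_G) (D.sbn.U_le hv)

theorem S_uniq (h : (g, x) ∈ C.S P) (h' : (g, x') ∈ C.S P) : C.pr P x = C.pr P x' := by
  obtain ⟨u, hu, v, hv, e⟩ := h
  obtain ⟨u', hu', v', hv', e'⟩ := h'
  exact (D.eq_of_mem_UNU hu hu' (C.rp_pr P _) (C.rp_pr P _) hv hv' (e.symm.trans e')).2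

theorem S_N (h : (g, x) ∈ C.S P) (hg : g ∈ D.NN) : g = C.pr P x := by
  obtain ⟨u, hu, v, hv, e⟩ := h
  exact D.sbn.uniq _ hg _ ⟨_, C.rp_pr P x⟩ u hu v hv e

variable (C P)

theorem exists_S (hg : g ∈ G) : ∃ x, (g, x) ∈ C.S P := by
  obtain ⟨u, hu, m, hm, v, hv, e⟩ := D.sbn.cover g hg
  obtain ⟨x, rfl⟩ := C.exists_pr P hm
  exact ⟨x, u, hu, v, hv, e⟩

/-- operators -/
def op {γ : Y} (hγ : γ ∈ G) (κ : Y → C.Nt) (h : ∀ g x, (g, x) ∈ C.S P → (γ * g, κ g * x) ∈ C.S P) : Op (C.S P) where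
  γ := γ
  κ := κ
  mem g x := ⟨fun h1 => by
    obtain ⟨y, hy⟩ := C.exists_S P ((mul_mem_cancel_left hγ).1 (S_G h1))
    have h2 := S_uniq h1 (h g y hy)
    rw [map_mul, map_mul, mul_right_inj] at h2
    obtain ⟨u, hu, v, hv, e⟩ := hy
    exact ⟨u, hu, v, hv, by rw [h2]; exact e⟩, h g x⟩

/-- unipotent operators -/
def opU {u : Y} (hu : u ∈ D.U) : Op (C.S P) := C.op P (D.sbn.U_le hu) (fun _ => 1) (by
  rintro g x ⟨u', hu', v, hv, rfl : g = u' * C.pr P x * v⟩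
  exact ⟨_, mul_mem hu hu', v, hv, by simp [mul_assoc]⟩)

/-- torus operators -/
noncomputable def opT (a : A) : Op (C.S P) := C.op P (D.T_le_G (C.mem a)) (fun _ => C.j a) (by
  rintro g x ⟨u', hu', v, hv, rfl : g = u' * C.pr P x * v⟩
  exact ⟨_, D.conj_mem_U_of_T (C.mem a) hu', v, hv, by simp [mul_assoc, pr_j]⟩)

/-- reflection operators -/
noncomputable def opN (i : D.I) : Op (C.S P) := C.op P (P.rp i).mem_G (C.κ P i) (by
  rintro g x ⟨u', hu', v, hv, rfl : g = u' * C.pr P x * v⟩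
  obtain ⟨u₁, h1, u₂, h2, e⟩ := C.κ_spec P (C.rp_pr P x) hu' hv i
  exact ⟨u₁, h1, u₂, h2, by rw [map_mul]; exact e⟩)

/-- the generators -/
def Gen : Set (Op (C.S P)) := {o | (∃ u, ∃ hu : u ∈ D.U, o = C.opU P hu) ∨ (∃ a, o = C.opT P a) ∨ ∃ i, o = C.opN P i}

theorem S_inv : ∀ q ∈ C.S P, q⁻¹ ∈ C.S P := by
  rintro q ⟨u, hu, v, hv, e⟩
  exact ⟨_, inv_mem hv, _, inv_mem hu, by simp [e, mul_assoc]⟩

theorem gen_B {o : Op (C.S P)} (ho : o ∈ C.Gen P) (hg : g ∈ G) {t u : Y} (ht : t ∈ D.T) (hu : u ∈ D.U) :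
    o.κ (g * (t * u)) = o.κ g := by
  rcases ho with ⟨u, hu, rfl⟩ | ⟨a, rfl⟩ | ⟨i, rfl⟩
  exacts [rfl, rfl, C.κ_B P hg ht hu]

theorem cm_U {u : Y} (hu : u ∈ D.U) {o : Op (C.S P)} (ho : o ∈ C.Gen P) : (C.opU P hu).Cm o := fun g m h => by
  show 1 * _ = 1 * m * (o.κ (u * g)⁻¹)⁻¹
  rw [_root_.mul_inv_rev, ← one_mul u⁻¹, C.gen_B P ho (inv_mem (S_G h)) (one_mem _) (inv_mem hu), mul_assoc]

theorem cm_T (a : A) {o : Op (C.S P)} (ho : o ∈ C.Gen P) : (C.opT P a).Cm o := fun g m h => by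
  show C.j a * _ = C.j a * m * (o.κ (C.π a * g)⁻¹)⁻¹
  rw [_root_.mul_inv_rev, ← mul_one (C.π a)⁻¹, C.gen_B P ho (inv_mem (S_G h)) (inv_mem (C.mem a)) (one_mem _), mul_assoc]

/-- the system of operators -/
noncomputable def sys : Sys (C.S P) G where
  inv := C.S_inv P
  one := ⟨1, one_mem _, 1, one_mem _, by simp⟩
  memG _ := S_G
  Gen := C.Gen P
  cm o ho o' ho' := by
    rcases ho with ⟨u, hu, rfl⟩ | ⟨a, rfl⟩ | ⟨i, rfl⟩
    · exact C.cm_U P hu ho'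
    · exact C.cm_T P a ho'
    rcases ho' with ⟨u, hu, rfl⟩ | ⟨a, rfl⟩ | ⟨j, rfl⟩
    · exact (C.cm_U P hu (.inr (.inr ⟨i, rfl⟩))).symm (C.S_inv P)
    · exact (C.cm_T P a (.inr (.inr ⟨i, rfl⟩))).symm (C.S_inv P)
    · exact fun g x ⟨u, hu, v, hv, e⟩ => C.κ_comm P x hu hv e i j
  gen g hg := by
    obtain ⟨x, u, hu, v, hv, rfl : g = u * C.pr P x * v⟩ := C.exists_S P hg
    have h1 : ∀ u ∈ D.U, u ∈ Subgroup.closure (Op.γ '' C.Gen P) := fun u hu =>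
      Subgroup.subset_closure ⟨_, .inl ⟨u, hu, rfl⟩, rfl⟩
    refine mul_mem (mul_mem (h1 u hu) (mul_mem (Subgroup.subset_closure ⟨_, .inr (.inl ⟨_, rfl⟩), rfl⟩) ?_)) (h1 v hv)
    induction x.w using ind_up D.cs with
    | h1 => rw [P.nw_one]; exact one_mem _
    | h w i h ih => rw [P.nw_up h]; exact mul_mem ih (Subgroup.subset_closure ⟨_, .inr (.inr ⟨i, rfl⟩), rfl⟩)
  fib g x x' h h' := by
    have h1 : C.pr P (x' * x⁻¹) = 1 := by rw [map_mul, map_inv, S_uniq h h', mul_inv_cancel]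
    have h2 := C.eq_j P (h1 ▸ one_mem D.T)
    refine ⟨_, .inr (.inl ⟨(x' * x⁻¹).a, rfl⟩), ?_, ?_⟩
    · show C.π _ = 1
      rw [← C.pr_j P, ← h2, h1]
    · show C.j _ * x = x'
      rw [← h2, inv_mul_cancel_right]

/-- the torus in the extension -/
noncomputable def Jt (a : A) : Equiv.Perm (C.S P) := (C.opT P a).L

theorem Jt_apply (a : A) (s : C.S P) : (C.Jt P a s).1 = (C.π a * s.1.1, C.j a * s.1.2) := rfl

theorem Jt_mem (a : A) : C.Jt P a ∈ (C.sys P).E := (C.sys P).L_mem (.inr (.inl ⟨a, rfl⟩))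

theorem Jt_Jt (a b : A) (s : C.S P) : C.Jt P a (C.Jt P b s) = C.Jt P (a * b) s :=
  Subtype.ext (by simp only [Jt_apply, map_mul, mul_assoc])

theorem Jt_inj {a b : A} (h : C.Jt P a (C.sys P).s0 = C.Jt P b (C.sys P).s0) : a = b :=
  C.j_inj (mul_right_cancel (congrArg (fun s : C.S P => s.1.2) h))

variable {φ ψ : Equiv.Perm (C.S P)}

theorem Jt_conj (hφ : φ ∈ (C.sys P).E) {w : D.W} (h : D.Rp w ((C.sys P).P φ)) (a : A) (s : C.S P) :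
    φ (C.Jt P a s) = C.Jt P (C.act w a) (φ s) := by
  refine DFunLike.congr_fun ((C.sys P).ext (mul_mem hφ (C.Jt_mem P a)) (mul_mem (C.Jt_mem P _) hφ) ?_) s
  have h1 := (C.sys P).comm hφ (C.Jt_mem P a⁻¹) (C.sys P).s0
  have h2 := S_N (x := (φ (C.sys P).s0).1.2) (φ (C.sys P).s0).2 ⟨w, h⟩
  have h3 := D.rp_unique h (h2 ▸ C.rp_pr P _)
  rw [show (C.sys P).J (C.Jt P a⁻¹ ((C.sys P).J (C.sys P).s0)) = C.Jt P a (C.sys P).s0 from Subtype.ext (by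
    simp [Sys.J_apply, Jt_apply, Sys.s0])] at h1
  rw [Equiv.Perm.mul_apply, Equiv.Perm.mul_apply, h1]
  refine Subtype.ext (Prod.ext ?_ ?_)
  · simp [Sys.J_apply, Jt_apply, C.π_act w _ h, Sys.P]
  · simp [Sys.J_apply, Jt_apply, h3, C.conj_j]

theorem Jt_cen (hφ : φ ∈ (C.sys P).E) {a : A} (h : C.π a = 1) (s : C.S P) : φ (C.Jt P a s) = C.Jt P a (φ s) := by
  have h1 : ∀ s, (C.sys P).J (C.Jt P a⁻¹ ((C.sys P).J s)) = C.Jt P a s := fun s => Subtype.ext (by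
    simp [Sys.J_apply, Jt_apply, h, C.conj_j, C.act_ker h])
  rw [← h1, ← h1, (C.sys P).comm hφ (C.Jt_mem P _)]

theorem exists_Jt (hφ : φ ∈ (C.sys P).E) (hψ : ψ ∈ (C.sys P).E) (h : (C.sys P).P φ = (C.sys P).P ψ) :
    ∃ a, C.π a = 1 ∧ ∀ s, ψ s = φ (C.Jt P a s) := by
  have h1 : (C.sys P).P (φ⁻¹ * ψ) = 1 := by rw [(C.sys P).P_mul (inv_mem hφ), (C.sys P).P_inv hφ, h, inv_mul_cancel]
  have h6 := one_mem D.NN
  have h2 := S_N (x := ((φ⁻¹ * ψ) (C.sys P).s0).1.2) ((φ⁻¹ * ψ) (C.sys P).s0).2 (by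
    rw [← h1] at h6; exact h6)
  have h3 := h2.symm.trans h1
  have h4 := C.eq_j P (h3 ▸ one_mem D.T)
  have h5 : C.π ((φ⁻¹ * ψ) (C.sys P).s0).1.2.a = 1 := by rw [← C.pr_j P, ← h4, h3]
  refine ⟨_, h5, fun s => ?_⟩
  rw [← (C.sys P).ext (mul_mem (inv_mem hφ) hψ) (C.Jt_mem P _) (Subtype.ext (Prod.ext
    (h1.trans (by rw [Jt_apply, h5]; exact (mul_one 1).symm)) (h4.trans (mul_one _).symm)))]
  simp

variable {P} (hq : D.QS) (hP : P.St)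

/-- the lift of `F` -/
noncomputable def f (s : C.S P) : C.S P := ⟨(F s.1.1, C.Fn hq s.1.2), by
  obtain ⟨u, hu, v, hv, e⟩ := s.2
  exact ⟨_, (hq.F_mem_U u).2 hu, _, (hq.F_mem_U v).2 hv, by rw [e, map_mul, map_mul, C.pr_Fn P hq hP]⟩⟩

theorem f_s0 : C.f hq hP (C.sys P).s0 = (C.sys P).s0 := Subtype.ext (Prod.ext (map_one F) (map_one (C.Fn hq)))

theorem f_Jt (a : A) (s : C.S P) : C.f hq hP (C.Jt P a s) = C.Jt P (C.Φ a) (C.f hq hP s) :=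
  Subtype.ext (by simp only [f, Jt_apply, map_mul, C.π_Φ, C.Fn_j])

include hP in
theorem Fn_κ (hg : g ∈ G) (i : D.I) : C.Fn hq (C.κ P i g) = C.κ P (D.σ i) (F g) := by
  obtain ⟨u₁, h1, m, ⟨w, hm⟩, u, hu, rfl⟩ := D.sbn.cover g hg
  obtain ⟨v, hv, a, rfl⟩ := P.dec i h1
  have h2 : F v ∈ Ui D (D.σ i) := D.F_mem_S (A := StabComb.PW D.cs D.h (D.cs.simple i))
    (B := StabComb.PW D.cs D.h (D.cs.simple (D.σ i))) (fun _ h => h.1) (fun r h => ⟨D.g_root r h.1, hq r h.1 h.2.1, by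
    rw [← hq.Fw_simple, ← Datum.act, ← D.g_act _ h.1]; exact hq _ (h.1.act _) h.2.2⟩) hv
  have h3 : D.act (D.Fw w)⁻¹ (sr (D.σ i)) = D.g (D.act w⁻¹ (sr i)) := by rw [D.g_act _ (rt D i), hq.g_sr, map_inv]
  have h4 : F (v * P.x i a * m * u) = F v * P.x (D.σ i) (a ^ p ^ D.ex (sr i)) * F m * F u := by
    rw [map_mul, map_mul, map_mul, hP]
  have h5 := (rt D i).act w⁻¹
  rcases h5.pos_or_neg with h | h
  · rw [C.κ_pos P hv hm hu h rfl, C.κ_pos P h2 (Datum.Rp.mapF hm) ((hq.F_mem_U u).2 hu) (h3 ▸ hq _ h5 h) h4]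
    exact C.Fn_wl hq i
  rw [C.κ_neg P hv hm hu h rfl, C.κ_neg P h2 (Datum.Rp.mapF hm) ((hq.F_mem_U u).2 hu)
    (h3 ▸ (D.g_root _ h5).not_nonneg_iff.1 fun e => h5.not_pos_neg ((hq.nonneg_iff h5).1 e) h) h4]
  by_cases h0 : a = 0
  · rw [h0, zero_pow (pow_pos (Fact.out : p.Prime).pos _).ne', kk_zero, kk_zero]
    exact C.Fn_wl hq i
  lift a to kˣ using Ne.isUnit h0
  rw [← Units.val_pow_eq_pow_val, kk_unit, kk_unit]
  refine (C.Fn_j hq _).trans (congrArg C.j ?_)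
  rw [C.Φ_h _ _ (rt D i), hq.g_sr]
  congr 1
  ext
  rw [Units.val_pow_eq_pow_val, Units.val_neg, neg_pow, neg_one_pow_char_pow, Units.val_neg, ← inv_pow,
    Units.val_pow_eq_pow_val, neg_one_mul]

theorem f_lift (hφ : φ ∈ (C.sys P).E) : ∃ ψ ∈ (C.sys P).E, ∀ s, C.f hq hP (φ s) = ψ (C.f hq hP s) := by
  refine (C.sys P).lift ?_ hφ
  rintro _ (⟨u, hu, rfl⟩ | ⟨a, rfl⟩ | ⟨i, rfl⟩)
  · exact ⟨_, .inl ⟨_, (hq.F_mem_U u).2 hu, rfl⟩, fun s => Subtype.ext (Prod.ext (map_mul F _ _)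
      ((map_mul (C.Fn hq) _ _).trans (congrArg (· * _) (map_one _))))⟩
  · exact ⟨_, .inr (.inl ⟨_, rfl⟩), C.f_Jt hq hP a⟩
  · exact ⟨_, .inr (.inr ⟨D.σ i, rfl⟩), fun s => Subtype.ext (Prod.ext
      ((map_mul F _ _).trans (congrArg (· * _) (P.F_n hq hP i)))
      ((map_mul (C.Fn hq) _ _).trans (congrArg (· * _) (C.Fn_κ hq hP (S_G s.2) i))))⟩

theorem P_lift (h : ∀ s, C.f hq hP (φ s) = ψ (C.f hq hP s)) : (C.sys P).P ψ = F ((C.sys P).P φ) := by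
  have := h (C.sys P).s0
  rw [f_s0] at this
  rw [Sys.P, ← this]
  rfl

/-- the graph of the connecting homomorphism -/
def Dl (g : Y) (a : A) : Prop :=
  C.π a = 1 ∧ ∃ φ ∈ (C.sys P).E, (C.sys P).P φ = g ∧ ∀ s, C.f hq hP (φ s) = φ (C.Jt P a (C.f hq hP s))

theorem exists_Dl (hg : g ∈ GF F G) : ∃ a, C.Dl hq hP g a := by
  obtain ⟨φ, hφ, rfl⟩ := (C.sys P).P_surj hg.1
  obtain ⟨ψ, hψ, h⟩ := C.f_lift hq hP hφ
  obtain ⟨a, h1, h2⟩ := C.exists_Jt P hφ hψ ((mem_GF.1 hg).2.symm.trans (C.P_lift hq hP h).symm)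
  exact ⟨a, h1, φ, hφ, rfl, fun s => by rw [h, h2]⟩

variable {C hq hP}

theorem Dl.unique {a a' : A} (h : C.Dl hq hP g a) (h' : C.Dl hq hP g a') : a = a' := by
  obtain ⟨-, φ, hφ, rfl, h⟩ := h
  obtain ⟨-, ψ, hψ, e, h'⟩ := h'
  obtain ⟨b, h1, h2⟩ := C.exists_Jt P hφ hψ e.symm
  have h3 := h' (C.sys P).s0
  rw [h2, h2, h, f_Jt, f_s0, C.Φ_ker b h1, Jt_Jt, Jt_Jt, EmbeddingLike.apply_eq_iff_eq] at h3
  exact mul_right_cancel ((C.Jt_inj P h3).trans (mul_comm _ _))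

theorem Dl.mul {g' : Y} {a a' : A} (h : C.Dl hq hP g a) (h' : C.Dl hq hP g' a') : C.Dl hq hP (g * g') (a * a') := by
  obtain ⟨h1, φ, hφ, rfl, h⟩ := h
  obtain ⟨h1', ψ, hψ, rfl, h'⟩ := h'
  refine ⟨by rw [map_mul, h1, h1', one_mul], φ * ψ, mul_mem hφ hψ, (C.sys P).P_mul hφ ψ, fun s => ?_⟩
  rw [Equiv.Perm.mul_apply, Equiv.Perm.mul_apply, h, h', ← C.Jt_cen P hψ h1, Jt_Jt]

theorem Dl.torus {y : Y} (hy : y ∈ G) {w : D.W} (hw : D.Rp w (y⁻¹ * F y)) {a : A} (h : y * C.π a * y⁻¹ ∈ GF F G) :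
    C.Dl hq hP (y * C.π a * y⁻¹) (a⁻¹ * C.act w (C.Φ a)) := by
  obtain ⟨φ, hφ, rfl⟩ := (C.sys P).P_surj hy
  obtain ⟨ψ, hψ, h1⟩ := C.f_lift hq hP hφ
  have h2 : C.π (a⁻¹ * C.act w (C.Φ a)) = 1 := by
    have h3 := (mem_GF.1 h).2
    rw [map_mul, map_mul, map_inv] at h3
    rw [map_mul, map_inv, C.π_act w _ hw, C.π_Φ]
    calc _ = (C.π a)⁻¹ * ((C.sys P).P φ)⁻¹ * (F ((C.sys P).P φ) * F (C.π a) * (F ((C.sys P).P φ))⁻¹) * (C.sys P).P φ := by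
          group
      _ = 1 := by rw [h3]; group
  have h3 : D.Rp w ((C.sys P).P (φ⁻¹ * ψ)) := by
    rwa [(C.sys P).P_mul (inv_mem hφ), (C.sys P).P_inv hφ, C.P_lift hq hP h1]
  refine ⟨h2, φ * C.Jt P a * φ⁻¹, mul_mem (mul_mem hφ (C.Jt_mem P a)) (inv_mem hφ), ?_, fun s => ?_⟩
  · rw [(C.sys P).P_mul (mul_mem hφ (C.Jt_mem P a)), (C.sys P).P_mul hφ, (C.sys P).P_inv hφ]
    exact congrArg (_ * · * _) ((C.sys P).P_L _)
  · obtain ⟨s, rfl⟩ := φ.surjective s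
    have h4 := C.Jt_conj P (mul_mem (inv_mem hφ) hψ) h3 (C.Φ a) (C.f hq hP s)
    rw [Equiv.Perm.mul_apply, Equiv.Perm.mul_apply, Equiv.Perm.inv_eq_iff_eq] at h4
    simp only [Equiv.Perm.mul_apply, Equiv.Perm.coe_inv, Equiv.symm_apply_apply, h1, f_Jt, h4]
    rw [← Equiv.Perm.coe_inv, C.Jt_cen P (inv_mem hφ) h2, Jt_Jt, mul_inv_cancel_left]

variable (C)

/-- **The connecting homomorphism.** -/
theorem exists_δ (hq : D.QS) : ∃ δ : ↥(GF F G) →* A, (∀ g, C.π (δ g) = 1) ∧ ∀ y ∈ G, ∀ w, D.Rp w (y⁻¹ * F y) →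
    ∀ (a : A) (h : y * C.π a * y⁻¹ ∈ GF F G), δ ⟨_, h⟩ = a⁻¹ * C.act w (C.Φ a) := by
  obtain ⟨P, hP⟩ := exists_pin hq
  choose δ hδ using fun g : ↥(GF F G) => C.exists_Dl hq hP g.2
  exact ⟨MonoidHom.mk' δ fun g g' => (hδ _).unique ((hδ g).mul (hδ g')), fun g => (hδ g).1,
    fun y hy w hw a h => (hδ _).unique (Dl.torus hy hw h)⟩

end Cv

end Cfsg.Agent.KZ.Mts
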