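import Cfsg.Agent.KZ.Mts.Nt
import Cfsg.Agent.KZ.Mts.Abs
import Cfsg.Agent.KZ.Mts.Alg

/-!
# Matsumoto's construction for a datum: the multipliers (helper2)
-/

set_option autoImplicit false
set_option linter.unusedSectionVars false
set_option maxHeartbeats 400000

namespace Cfsg.Agent.KZ.Mts

open CoxeterSystem Cfsg.Agent.DL Cfsg.Agent.Nodes.Reps Cfsg.Agent.Nodes.BNOf Cfsg.Agent.Nodes
  Cfsg.Agent.ChevalleyStructure.CoxeterGeom Cfsg.Agent.Tits.Roots Matrix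
open scoped commutatorElement

variable {p : ℕ} [Fact p.Prime] {k : Type} [Field k] [CharP k p] [IsAlgClosed k] {Y : Type} [Group Y] {N : Type}
  [Fintype N] [DecidableEq N] {ρ : Y →* GL N k} {F : MulAut Y} {G : Subgroup Y} {D : Datum p ρ F G}

variable (D) in
/-- the unipotent radical of the minimal parabolic subgroup -/
def Ui (i : D.I) : Subgroup Y := D.S (StabComb.PW D.cs D.h (D.cs.simple i))

variable {i j : D.I} {w w' : D.W} {m m' n u u' v v' g : Y} {a b : k}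

theorem Ui_le : Ui D i ≤ D.U := D.PW_le_U _

theorem Ui_conj (hn : D.Rp (D.cs.simple i) n) (h : v ∈ Ui D i) : n * v * n⁻¹ ∈ D.U := D.conj_PW hn h

theorem X_le_Ui {r : D.I → ℤ} (hr : D.Rt r) (h0 : 0 ≤ r) (h : r ≠ sr i) : D.X r ≤ Ui D i :=
  RGD.le_Sup (S := StabComb.PW D.cs D.h (D.cs.simple i)) ⟨hr, h0, hr.simple_nonneg h0 i h⟩

theorem Ui_norm {z : Y} (hz : z ∈ D.X (sr i)) (h : v ∈ Ui D i) : z * v * z⁻¹ ∈ Ui D i := by
  refine (RGD.Sup_le (K := (Ui D i).comap (MulAut.conj z).toMonoidHom) ?_) h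
  rintro r ⟨hr, h0, h1⟩ y hy
  have h2 : sr i ≠ r := fun e => (rt D i).not_pos_neg (sr_nonneg i) (neg_nonneg.1 (by rwa [← e, rep_simple_sr] at h1))
  have h3 := D.comm (rt D i) hr h2 (fun e => (rt D i).not_pos_neg (sr_nonneg i) (e ▸ neg_nonpos.2 h0)) hz hy
  have h4 : ⁅z, y⁆ ∈ Ui D i := by
    refine (RGD.Sup_le ?_ : _ ≤ Ui D i) h3
    rintro c ⟨hc, s, a, b, hs, ha, hb, e⟩
    refine X_le_Ui hc (fun l => ?_) fun e' => h2 (hr.eq_sr h0 i fun l hl => ?_).symm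
    · have h5 := congrFun e l
      have h6 := h0 l
      have h7 := sr_nonneg i l
      simp only [Pi.smul_apply, Pi.add_apply, smul_eq_mul, Pi.zero_apply] at h5 h6 h7 ⊢
      nlinarith
    · simpa [e', sr_ne hl, hb.ne'] using congrFun e l
  simpa [commutatorElement_def] using mul_mem h4 (X_le_Ui hr h0 h2.symm hy)

theorem conj_U (hm : D.Rp w m) {r : D.I → ℤ} (hr : D.Rt r) (h0 : 0 ≤ D.act w r) {z : Y} (hz : z ∈ D.X r) :
    m * z * m⁻¹ ∈ D.U :=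
  RGD.le_Sup (S := RGD.Pos D.cs D.h) ⟨hr.act _, h0⟩ (D.conj_mem hm hr hz)

theorem inv_cj {M : Type} [Group M] {x y z : M} (h : x * y = z * x) : x * y⁻¹ = z⁻¹ * x := by
  rw [eq_inv_mul_iff_mul_eq, ← mul_assoc, ← h, mul_inv_cancel_right]

namespace Pin

variable (P : Pin D)

theorem xU (i : D.I) (a : k) : P.x i a ∈ D.U := Mts.xU D i _

theorem dec (i : D.I) (hu : u ∈ D.U) : ∃ v ∈ Ui D i, ∃ a, u = v * P.x i a := by
  obtain ⟨v, hv, c, hc, rfl⟩ := D.exists_PW_NW (D.cs.simple i) hu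
  obtain ⟨a, rfl⟩ := P.exists_x ((RGD.Sup_le (K := D.X (sr i)) fun r hr => by
    obtain rfl : r = sr i := by_contra fun e => (hr.1.act _).not_pos_neg (hr.1.simple_nonneg hr.2.1 i e) hr.2.2
    exact le_rfl) hc)
  exact ⟨v, hv, a, rfl⟩

theorem dec' (i : D.I) (hu : u ∈ D.U) : ∃ v ∈ Ui D i, ∃ a, u = P.x i a * v := by
  obtain ⟨v, hv, a, e⟩ := P.dec i (inv_mem hu)
  exact ⟨v⁻¹, inv_mem hv, -a, by rw [P.x_neg, ← _root_.mul_inv_rev, ← e, inv_inv]⟩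

theorem x_n_inv (i : D.I) (hb : b ≠ 0) :
    ∃ t ∈ D.T, ∃ u ∈ D.U, P.x i b * (P.n i)⁻¹ = P.n i * P.x i (-b⁻¹) * (P.n i)⁻¹ * t * u := by
  lift b to kˣ using hb.isUnit
  have h := (P.pn i).rel (-b⁻¹)
  simp only [inv_neg, inv_inv, Units.val_neg, neg_neg, Units.val_inv_eq_inv_val] at h
  refine ⟨_, hh_mem D i b, _, D.conj_mem_U_of_T (inv_mem (hh_mem D i b)) (inv_mem (P.xU i b)), ?_⟩
  have e : hh D i (-1) * P.n i = hh D i (-b) * P.n i * hh D i b := by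
    rw [mul_assoc, mul_inv_eq_iff_eq_mul.1 (n_hh (P.rp i) b), ← mul_assoc, ← map_mul, neg_mul, mul_inv_cancel]
  rw [x, x, h, (P.pn i).inv, e]
  group

theorem n_x (i : D.I) (b : kˣ) :
    ∃ u ∈ D.U, ∃ y ∈ D.X (-sr i), P.n i * P.x i b = u * hh D i (-b⁻¹) * y := by
  have h := (P.pn i).rel b
  have h1 := D.conj_mem (P.rp i).inv (rt D i) (P.x_mem i (-(b⁻¹ : kˣ)))
  rw [inv_simple, act_simple] at h1
  refine ⟨_, P.xU i (-(b⁻¹ : kˣ)), _, h1, ?_⟩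
  rw [x, x, mul_inv_eq_iff_eq_mul.1 h, ← mul_neg_one b⁻¹, map_mul, ← (P.pn i).sq]
  group

end Pin

namespace Cv

variable {A : Type} [CommGroup A] (C : Cv D A) (P : Pin D)

/-- the lifted coroots -/
noncomputable def H (i : D.I) : kˣ →* C.Nt := C.j.comp (C.h (sr i))

/-- the lifted reflections -/
def ν (i : D.I) : C.Nt := C.wl (D.cs.simple i)

theorem pr_H (i : D.I) (c : kˣ) : C.pr P (C.H i c) = hh D i c := (C.pr_j P _).trans (C.π_h i c)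

theorem pr_ν (i : D.I) : C.pr P (C.ν i) = P.n i := (C.pr_wl P _).trans (nw_simple P i)

theorem conj_H (x : C.Nt) (h : D.act x.w (sr j) = sr i) (c : kˣ) : x * C.H j c = C.H i c * x :=
  (C.conj_j x _).trans (by rw [C.act_h _ _ _ (rt D j), h]; rfl)

theorem ν_H (i : D.I) (c : kˣ) : C.ν i * C.H i c = C.H i c⁻¹ * C.ν i := (C.conj_j _ _).trans (by
  show C.j (C.act (D.cs.simple i) _) * _ = C.j _ * _
  rw [C.act_h _ _ _ (rt D i), act_simple, C.h_neg _ _ (rt D i), ← map_inv])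

/-- the multiplier of `n i` on `g` -/
def K (i : D.I) (g : Y) (κ : C.Nt) : Prop := ∃ v ∈ Ui D i, ∃ a w m, D.Rp w m ∧ ∃ u ∈ D.U, g = v * P.x i a * m * u ∧
  ((0 ≤ D.act w⁻¹ (sr i) ∧ κ = C.ν i) ∨ (D.act w⁻¹ (sr i) ≤ 0 ∧ κ = kk (C.H i) (C.ν i) a))

theorem spec_pos (hv : v ∈ Ui D i) (hm : D.Rp w m) (hu : u ∈ D.U) (h : a = 0 ∨ 0 ≤ D.act w⁻¹ (sr i)) :
    ∃ u₁ ∈ D.U, ∃ u₂ ∈ D.U, P.n i * (v * P.x i a * m * u) = u₁ * (P.n i * m) * u₂ := by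
  refine ⟨_, Ui_conj (P.rp i) hv, m⁻¹ * P.x i a * m⁻¹⁻¹ * u, mul_mem ?_ hu, by group⟩
  rcases h with rfl | h
  · simp [P.x_zero]
  · exact conj_U hm.inv (rt D i) h (P.x_mem i a)

theorem spec_neg (hv : v ∈ Ui D i) (hm : D.Rp w m) (hu : u ∈ D.U) (h : D.act w⁻¹ (sr i) ≤ 0) (b : kˣ) :
    ∃ u₁ ∈ D.U, ∃ u₂ ∈ D.U, P.n i * (v * P.x i b * m * u) = u₁ * (hh D i (-b⁻¹) * m) * u₂ := by
  obtain ⟨u', hu', y, hy, e⟩ := P.n_x i b
  refine ⟨_, mul_mem (Ui_conj (P.rp i) hv) hu', _,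
    mul_mem (conj_U hm.inv (rt D i).neg (by rw [act_neg]; exact neg_nonneg.2 h) hy) hu, ?_⟩
  calc _ = P.n i * v * (P.n i)⁻¹ * (P.n i * P.x i b) * m * u := by group
    _ = _ := by rw [e]; group

theorem eq_zero_of (hv : v ∈ Ui D i) (hm : D.Rp w m) (hu : u ∈ D.U) (h : D.act w⁻¹ (sr i) ≤ 0) (hu' : u' ∈ D.U)
    (e : v * P.x i a * m * u = m * u') : a = 0 := by
  by_contra h0
  lift a to kˣ using Ne.isUnit h0
  obtain ⟨u₁, h1, u₂, h2, h3⟩ := spec_neg P hv hm hu h a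
  rw [e, ← mul_assoc, ← one_mul (P.n i * m)] at h3
  have h4 := (D.eq_of_mem_UNU (one_mem _) h1 ((P.rp i).mul hm) (rp_T (hh_mem D i _) hm) hu' h2 h3).1
  exact KFacts.RgdDiag.simple_ne_one i (mul_eq_right.1 h4)

variable {C P} in
theorem K.unique {κ κ' : C.Nt} (h : C.K P i g κ) (h' : C.K P i g κ') : κ = κ' := by
  obtain ⟨v, hv, a, w, m, hm, u, hu, rfl, h⟩ := h
  obtain ⟨v', hv', a', w', m', hm', u', hu', e, h'⟩ := h'
  obtain ⟨rfl, rfl⟩ := D.eq_of_mem_UNU (mul_mem (Ui_le hv) (P.xU i a)) (mul_mem (Ui_le hv') (P.xU i a')) hm hm' hu hu' e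
  have h0 := (rt D i).act w⁻¹
  rcases h with ⟨h1, rfl⟩ | ⟨h1, rfl⟩ <;> rcases h' with ⟨h2, rfl⟩ | ⟨h2, rfl⟩
  · rfl
  · exact absurd h2 (h0.not_pos_neg h1)
  · exact absurd h1 (h0.not_pos_neg h2)
  have h3 := eq_zero_of P (a := -a' + a) (Ui_norm (inv_mem (P.x_mem i a')) (mul_mem (inv_mem hv') hv)) hm hu h1 hu' (by
    rw [P.x_add, P.x_neg]
    calc _ = (P.x i a')⁻¹ * v'⁻¹ * (v * P.x i a * m * u) := by group
      _ = _ := by rw [e]; group)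
  rw [← neg_add_eq_zero.1 h3]

open Classical in
/-- the multiplier as a function -/
noncomputable def κ (i : D.I) (g : Y) : C.Nt := if h : ∃ κ, C.K P i g κ then h.choose else 1

variable {C P} in
theorem K.eq {κ : C.Nt} (h : C.K P i g κ) : C.κ P i g = κ := by
  rw [Cv.κ, dif_pos ⟨κ, h⟩]
  exact (Exists.choose_spec ⟨κ, h⟩).unique h

theorem κ_pos (hv : v ∈ Ui D i) (hm : D.Rp w m) (hu : u ∈ D.U) (h : 0 ≤ D.act w⁻¹ (sr i)) (e : g = v * P.x i a * m * u) :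
    C.κ P i g = C.ν i := K.eq ⟨v, hv, a, w, m, hm, u, hu, e, .inl ⟨h, rfl⟩⟩

theorem κ_neg (hv : v ∈ Ui D i) (hm : D.Rp w m) (hu : u ∈ D.U) (h : D.act w⁻¹ (sr i) ≤ 0) (e : g = v * P.x i a * m * u) :
    C.κ P i g = kk (C.H i) (C.ν i) a := K.eq ⟨v, hv, a, w, m, hm, u, hu, e, .inr ⟨h, rfl⟩⟩

theorem κ_congr {g' : Y} (hv : v ∈ Ui D i) (hm : D.Rp w m) (hu : u ∈ D.U) (hv' : v' ∈ Ui D i) (hm' : D.Rp w' m')
    (hu' : u' ∈ D.U) (h : 0 ≤ D.act w'⁻¹ (sr i) ↔ 0 ≤ D.act w⁻¹ (sr i)) (e : g = v * P.x i a * m * u)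
    (e' : g' = v' * P.x i a * m' * u') : C.κ P i g' = C.κ P i g := by
  by_cases h1 : 0 ≤ D.act w⁻¹ (sr i)
  · rw [C.κ_pos P hv hm hu h1 e, C.κ_pos P hv' hm' hu' (h.2 h1) e']
  · rw [C.κ_neg P hv hm hu (((rt D i).act _).not_nonneg_iff.1 h1) e,
      C.κ_neg P hv' hm' hu' (((rt D i).act _).not_nonneg_iff.1 (mt h.1 h1)) e']

theorem κ_spec (hm : D.Rp w m) (hu : u ∈ D.U) (hu' : u' ∈ D.U) (i : D.I) :
    ∃ u₁ ∈ D.U, ∃ u₂ ∈ D.U, P.n i * (u * m * u') = u₁ * (C.pr P (C.κ P i (u * m * u')) * m) * u₂ := by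
  obtain ⟨v, hv, a, rfl⟩ := P.dec i hu
  rcases ((rt D i).act w⁻¹).pos_or_neg with h | h
  · rw [C.κ_pos P hv hm hu' h rfl, pr_ν]
    exact spec_pos P hv hm hu' (.inr h)
  rw [C.κ_neg P hv hm hu' h rfl]
  by_cases h0 : a = 0
  · rw [show kk (C.H i) (C.ν i) a = C.ν i by rw [h0, kk_zero], pr_ν]
    exact spec_pos P hv hm hu' (.inl h0)
  · lift a to kˣ using Ne.isUnit h0
    rw [kk_unit, pr_H]
    exact spec_neg P hv hm hu' h a

theorem κ_B (hg : g ∈ G) {t : Y} (ht : t ∈ D.T) (hu : u ∈ D.U) : C.κ P i (g * (t * u)) = C.κ P i g := by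
  obtain ⟨u₁, h1, m, ⟨w, hm⟩, u₂, h2, rfl⟩ := D.sbn.cover g hg
  obtain ⟨v, hv, a, rfl⟩ := P.dec i h1
  exact C.κ_congr P hv hm h2 hv (hm.mul_mem_right ht) (mul_mem (D.conj_mem_U_of_T (inv_mem ht) h2) hu) Iff.rfl rfl
    (by group)

theorem κ_nc (hm : D.Rp w m) (hu : u ∈ D.U) (hu' : u' ∈ D.U) (h1 : D.act w (sr j) ≠ sr i) (h2 : D.act w (sr j) ≠ -sr i) :
    C.κ P i (u * m * u' * (P.n j)⁻¹) = C.κ P i (u * m * u') := by
  obtain ⟨v, hv, a, rfl⟩ := P.dec i hu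
  obtain ⟨v', hv', b, rfl⟩ := P.dec' j hu'
  have hr := (rt D j).act w
  have h3 : 0 ≤ D.act (w * D.cs.simple j)⁻¹ (sr i) ↔ 0 ≤ D.act w⁻¹ (sr i) := by
    have h4 := (rt D i).act w⁻¹
    rw [_root_.mul_inv_rev, inv_simple, act_mul]
    refine ⟨fun h => by_contra fun h5 => ?_, fun h => h4.simple_nonneg h j fun e => h1 (inv_inv w ▸ act_inv e)⟩
    have h6 := h4.neg.simple_nonneg (h4.not_nonneg_iff_neg.1 h5) j fun e => h2 (by
      rw [← e, act_neg, Datum.act, rep_apply_inv])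
    exact (h4.act _).not_pos_neg h (neg_nonneg.1 (by rwa [map_neg] at h6))
  have h4 : D.Rp (w * D.cs.simple j) (m * (P.n j)⁻¹) := by simpa using hm.mul (P.rp j).inv
  have key : ∀ {z m' u w'}, z ∈ Ui D i → D.Rp w' m' → u ∈ D.U → (0 ≤ D.act w'⁻¹ (sr i) ↔ 0 ≤ D.act w⁻¹ (sr i)) →
      m * (P.x j b * (P.n j)⁻¹) = z * m' * u → C.κ P i (v * P.x i a * m * (P.x j b * v') * (P.n j)⁻¹) =
        C.κ P i (v * P.x i a * m * (P.x j b * v')) := fun {z m' u w'} hz hm' hu h e =>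
    C.κ_congr P hv hm hu' (mul_mem hv (Ui_norm (P.x_mem i a) hz)) hm' (mul_mem hu (Ui_conj (P.rp j) hv')) h rfl (by
      calc _ = v * P.x i a * (m * (P.x j b * (P.n j)⁻¹)) * (P.n j * v' * (P.n j)⁻¹) := by group
        _ = _ := by rw [e]; group)
  rcases hr.pos_or_neg with h | h
  · exact key (X_le_Ui hr h h1 (D.conj_mem hm (rt D j) (P.x_mem j b))) h4 (one_mem _) h3 (by group)
  by_cases hb : b = 0
  · exact key (one_mem _) h4 (one_mem _) h3 (by rw [hb, P.x_zero]; group)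
  obtain ⟨t, ht, u, hu, e⟩ := P.x_n_inv j hb
  have h5 := D.conj_mem (hm.mul (P.rp j)) (rt D j) (P.x_mem j (-b⁻¹))
  rw [act_mul, act_simple, act_neg] at h5
  exact key (X_le_Ui hr.neg (neg_nonneg.2 h) (fun e => h2 (neg_eq_iff_eq_neg.1 e)) h5) (hm.mul_mem_right ht) hu Iff.rfl
    (by rw [e]; group)

open Classical in
theorem κ_crit (hm : D.Rp w m) (hv : v ∈ Ui D i) (hv' : v' ∈ Ui D j) (h : D.act w (sr j) = -sr i) {e : kˣ}
    (he : ∀ c, m * P.n j * P.x j c * (m * P.n j)⁻¹ = P.x i (e * c)) (hg : g = v * P.x i a * m * (P.x j b * v')) :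
    C.κ P i (g * (P.n j)⁻¹) = if b = 0 then C.ν i else kk (C.H i) (C.ν i) (a + -(e * b⁻¹)) := by
  have h1 : D.act w⁻¹ (sr i) = -sr j := by rw [← act_inv h, act_neg, neg_neg]
  split_ifs with hb
  · refine C.κ_pos P (a := a) hv (hm.mul (P.rp j).inv) (Ui_conj (P.rp j) hv') ?_ (by rw [hg, hb, P.x_zero]; group)
    rw [_root_.mul_inv_rev, inv_inv, act_mul, h1, act_neg, act_simple, neg_neg]
    exact sr_nonneg j
  obtain ⟨t, ht, u, hu, e'⟩ := P.x_n_inv j hb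
  refine C.κ_neg P hv (hm.mul_mem_right ht) (mul_mem hu (Ui_conj (P.rp j) hv')) (h1 ▸ neg_nonpos.2 (sr_nonneg j)) ?_
  rw [hg, P.x_add, ← mul_neg, ← he]
  calc _ = v * P.x i a * m * (P.x j b * (P.n j)⁻¹) * (P.n j * v' * (P.n j)⁻¹) := by group
    _ = _ := by rw [e']; group

/-- the main commutation rule -/
theorem κ_comm (x : C.Nt) (hu : u ∈ D.U) (hu' : u' ∈ D.U) (hg : g = u * C.pr P x * u') (i j : D.I) :
    C.κ P i (g * (P.n j)⁻¹) * (x * (C.κ P j g⁻¹)⁻¹) = C.κ P i g * x * (C.κ P j (P.n i * g)⁻¹)⁻¹ := by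
  have hm := C.rp_pr P x
  by_cases h1 : D.act x.w (sr j) = sr i
  · obtain ⟨e, he⟩ := exists_scal hm h1 (P.u j) (P.u i)
    change ∀ c, _ * P.x j c * _ = P.x i (e * c) at he
    have h2 := act_inv h1
    obtain ⟨v', hv', b, rfl⟩ := P.dec' j hu'
    obtain ⟨v, hv, a, e1⟩ := P.dec i (mul_mem hu (P.xU i (e * b)))
    have e2 : g = v * P.x i a * C.pr P x * v' := by rw [hg, ← e1, ← he]; group
    have e3 : g⁻¹ = v'⁻¹ * P.x j (-((e⁻¹ : kˣ) * a)) * (C.pr P x)⁻¹ * v⁻¹ := by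
      rw [e2, P.x_neg, ← Units.mul_inv_cancel_left e a, ← he, Units.mul_inv_cancel_left]; group
    have h3 : x * C.ν j = C.H i e * C.ν i * x := C.conj_wl P x h1 he
    rw [C.κ_pos P hv hm (Ui_le hv') (h2 ▸ sr_nonneg j) e2,
      C.κ_pos P (inv_mem hv') hm.inv (inv_mem (Ui_le hv)) (by rw [inv_inv, h1]; exact sr_nonneg i) e3,
      C.κ_neg P (a := a) hv (hm.mul (P.rp j).inv) (Ui_conj (P.rp j) hv') (by
        rw [_root_.mul_inv_rev, inv_inv, act_mul, h2, act_simple]; exact neg_nonpos.2 (sr_nonneg j)) (by rw [e2]; group),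
      C.κ_neg P (a := -((e⁻¹ : kˣ) * a)) (inv_mem hv') (hm.inv.mul (P.rp i).inv) (Ui_conj (P.rp i) (inv_mem hv)) (by
        rw [_root_.mul_inv_rev, inv_inv, inv_inv, act_mul, h1, act_simple]; exact neg_nonpos.2 (sr_nonneg i))
        (by rw [_root_.mul_inv_rev, e3]; group),
      mul_assoc, inv_cj h3, inv_cj (kk_conj (C.conj_H x h1) h3 _), ← mul_assoc, ← mul_assoc, alg1 (C.ν_H i) (C.wl_sq i)]
  by_cases h2 : D.act x.w (sr j) = -sr i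
  · have hm' := C.rp_pr P (x * C.ν j)
    have h3 : D.act (x * C.ν j).w (sr j) = sr i := by
      show D.act (x.w * D.cs.simple j) _ = _
      rw [act_mul, act_simple, act_neg, h2, neg_neg]
    obtain ⟨e, he⟩ := exists_scal hm' h3 (P.u j) (P.u i)
    change ∀ c, _ * P.x j c * _ = P.x i (e * c) at he
    have h4 : x * C.ν j * C.ν j = C.H i e * C.ν i * (x * C.ν j) := C.conj_wl P _ h3 he
    have h5 := C.conj_H _ h3
    have h6 := congrArg (C.pr P) h4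
    rw [map_mul, map_mul _ (_ * _) (_ * _), map_mul _ (C.H _ _), pr_H, pr_ν, pr_ν] at h6
    have h7 : (C.pr P x)⁻¹ * P.n i = hh D j (-e) * (C.pr P (x * C.ν j))⁻¹ := by
      have h8 := n_hh (P.rp j) e⁻¹
      rw [inv_inv, map_inv] at h8
      rw [← mul_neg_one, map_mul (hh D j), ← (P.pn j).sq, eq_inv_mul_iff_mul_eq.2 (mul_inv_eq_iff_eq_mul.2 h6).symm,
        ← rp_hh hm' h3, map_mul, pr_ν]
      conv_rhs => rw [← h8]
      group
    have he' : ∀ c, (C.pr P x)⁻¹ * P.n i * P.x i c * ((C.pr P x)⁻¹ * P.n i)⁻¹ = P.x j (e * c) := fun c => by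
      have h8 := hh_xs j (-e) (P.u j * ((e⁻¹ : kˣ) * c))
      rw [h7, ← Units.mul_inv_cancel_left e c, ← he, Units.mul_inv_cancel_left, Pin.x, Pin.x,
        show (P.u j : k) * (e * c) = (-e : kˣ) * (-e : kˣ) * (P.u j * ((e⁻¹ : kˣ) * c)) by
          simp only [Units.val_neg, Units.val_inv_eq_inv_val]; field_simp, ← mul_inv_eq_iff_eq_mul.2 h8]
      group
    rw [map_mul, pr_ν] at he
    have h8 : D.act x.w⁻¹ (sr i) = -sr j := by rw [← act_inv h2, act_neg, neg_neg]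
    obtain ⟨v', hv', b, rfl⟩ := P.dec' j hu'
    obtain ⟨v, hv, a, rfl⟩ := P.dec i hu
    have e3 : g⁻¹ = v'⁻¹ * P.x j (-b) * (C.pr P x)⁻¹ * (P.x i (-a) * v⁻¹) := by rw [hg, P.x_neg, P.x_neg]; group
    rw [C.κ_crit P hm hv hv' h2 he hg, _root_.mul_inv_rev, C.κ_crit P hm.inv (inv_mem hv') (inv_mem hv) h8 he' e3,
      C.κ_neg P hv hm (mul_mem (P.xU j b) (Ui_le hv')) (h8 ▸ neg_nonpos.2 (sr_nonneg j)) hg,
      C.κ_neg P (inv_mem hv') hm.inv (mul_mem (P.xU i (-a)) (inv_mem (Ui_le hv)))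
        (by rw [inv_inv, h2]; exact neg_nonpos.2 (sr_nonneg i)) e3]
    have h9 : x = (C.H i e * C.ν i)⁻¹ * (x * C.ν j) := by rw [← inv_cj h4, mul_inv_cancel_right]
    have h10 := fun c => inv_cj (kk_conj h5 h4 c)
    have h11 := congrArg (· * (x * C.ν j)) (alg2 (C.ν_H i) (C.wl_sq i) e a b)
    generalize x * C.ν j = y at h4 h9 h10 h11
    rw [h9]
    simp only [mul_assoc] at h11 ⊢
    rw [h10, ← mul_assoc (C.H i e * C.ν i)⁻¹] at *
    split_ifs at h11 ⊢ <;> simpa only [h10, inv_cj h4, mul_assoc] using h11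
  · have h3 := C.κ_nc P hm.inv (inv_mem hu') (inv_mem hu) (i := j) (j := i) (fun e => h1 (inv_inv x.w ▸ act_inv e))
      fun e => h2 (by rw [← inv_inv x.w, ← neg_eq_iff_eq_neg, ← act_neg]; exact act_inv e)
    rw [show u'⁻¹ * (C.pr P x)⁻¹ * u⁻¹ = g⁻¹ by rw [hg]; group] at h3
    rw [_root_.mul_inv_rev, h3, hg, C.κ_nc P hm hu hu' h1 h2, mul_assoc _ x]

end Cv

end Cfsg.Agent.KZ.Mts
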