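import Cfsg.Agent.KZ.Mts.Nw

/-!
# The extended Weyl group of a covering torus (helper2)

`Cv D A` : a commutative group `A` over the torus `T` with lifts of the Weyl group action, the coroots and `F`.
`Nt C` : the extension of `W` by `A` with the cocycle of Tits.
-/

set_option autoImplicit false
set_option linter.unusedSectionVars false
set_option maxHeartbeats 400000

namespace Cfsg.Agent.KZ.Mts

open CoxeterSystem Cfsg.Agent.DL Cfsg.Agent.Nodes.Reps Cfsg.Agent.Nodes.BNOf Cfsg.Agent.Nodes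
  Cfsg.Agent.ChevalleyStructure.CoxeterGeom Cfsg.Agent.Tits.Roots Matrix

variable {p : ℕ} [Fact p.Prime] {k : Type} [Field k] [CharP k p] [IsAlgClosed k] {Y : Type} [Group Y] {N : Type}
  [Fintype N] [DecidableEq N] {ρ : Y →* GL N k} {F : MulAut Y} {G : Subgroup Y} {D : Datum p ρ F G}

variable (D) in
/-- a covering torus -/
structure Cv (A : Type) [CommGroup A] where
  π : A →* Y
  act : D.W →* Monoid.End A
  h : (D.I → ℤ) → kˣ →* A
  Φ : A →* A
  mem : ∀ a, π a ∈ D.T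
  surj : ∀ t ∈ D.T, ∃ a, π a = t
  π_act : ∀ w m, D.Rp w m → ∀ a, π (act w a) = m * π a * m⁻¹
  π_h : ∀ i c, π (h (sr i) c) = hh D i c
  act_h : ∀ w r c, D.Rt r → act w (h r c) = h (D.act w r) c
  h_neg : ∀ r c, D.Rt r → h (-r) c = (h r c)⁻¹
  act_s : ∀ i a (e : kˣ), D.χ (sr i) (π a) = e → act (D.cs.simple i) a = a * (h (sr i) e)⁻¹
  π_Φ : ∀ a, π (Φ a) = F (π a)
  Φ_act : ∀ w a, Φ (act w a) = act (D.Fw w) (Φ a)
  Φ_h : ∀ r c, D.Rt r → Φ (h r c) = h (D.g r) (c ^ p ^ D.ex r)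
  Φ_ker : ∀ a, π a = 1 → Φ a = a

namespace Cv

variable {A : Type} [CommGroup A] (C : Cv D A)

theorem act_mul' (v w : D.W) (a : A) : C.act (v * w) a = C.act v (C.act w a) := by rw [map_mul]; rfl

theorem act_one' (a : A) : C.act 1 a = a := by rw [map_one]; rfl

theorem act_ker {a : A} (h : C.π a = 1) (w : D.W) : C.act w a = a := by
  induction w using D.cs.simple_induction_right with
  | one => exact C.act_one' a
  | mul_simple_right w i ih =>
    rw [act_mul', C.act_s i a 1 (by rw [h, D.χ_one, Units.val_one]), map_one, inv_one, mul_one, ih]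

theorem e_sq (r : D.I → ℤ) : C.h r (-1) * C.h r (-1) = 1 := by rw [← map_mul, neg_mul_neg, one_mul, map_one]

theorem e_neg {r : D.I → ℤ} (hr : D.Rt r) : C.h (-r) (-1) = C.h r (-1) := by
  rw [C.h_neg r _ hr, inv_eq_of_mul_eq_one_left (C.e_sq r)]

open Classical in
/-- the cocycle, homogeneous form -/
noncomputable def tq (a b c : D.W) : A := ∏ r ∈ D.finite_roots.toFinset,
  if 0 ≤ D.act a⁻¹ r ∧ ¬ 0 ≤ D.act b⁻¹ r ∧ 0 ≤ D.act c⁻¹ r then C.h r (-1) else 1

theorem act_tq (w a b c : D.W) : C.act w (C.tq a b c) = C.tq (w * a) (w * b) (w * c) := by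
  rw [tq, tq, map_prod]
  have h1 : ∀ v r, D.act (w * v)⁻¹ (D.act w r) = D.act v⁻¹ r := fun v r => by
    rw [← act_mul, _root_.mul_inv_rev, inv_mul_cancel_right]
  refine Finset.prod_nbij' (D.act w) (D.act w⁻¹) (fun r hr => ?_) (fun r hr => ?_) (fun r _ => rep_inv_apply _ _ _ _)
    (fun r _ => rep_apply_inv _ _ _ _) fun r hr => ?_
  · simpa using IsRoot.act (by simpa using hr) w
  · simpa using IsRoot.act (by simpa using hr) w⁻¹
  · rw [h1, h1, h1, ← C.act_h w r _ (by simpa using hr)]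
    split_ifs
    exacts [rfl, map_one _]

theorem tq_sq (a b c : D.W) : C.tq a b c * C.tq a b c = 1 := by
  rw [tq, ← Finset.prod_mul_distrib]
  refine Finset.prod_eq_one fun r _ => ?_
  split_ifs
  exacts [C.e_sq r, one_mul 1]

theorem tq_coc (a b c d : D.W) : C.tq a b c * C.tq a c d = C.tq b c d * C.tq a b d := by
  rw [← mul_left_inj (C.tq b c d * C.tq a b d), mul_mul_mul_comm (C.tq b c d), tq_sq, tq_sq, one_mul, tq, tq, tq, tq,
    ← Finset.prod_mul_distrib, ← Finset.prod_mul_distrib, ← Finset.prod_mul_distrib]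
  refine Finset.prod_involution (fun r _ => -r) (fun r hr => ?_) (fun r hr _ e => ?_) (fun r hr => ?_)
    fun r _ => neg_neg r
  · have hr' : D.Rt r := by simpa using hr
    have h1 : ∀ w, 0 ≤ D.act w (-r) ↔ ¬ 0 ≤ D.act w r := fun w => by
      rw [act_neg, (hr'.act w).not_nonneg_iff_neg]
    rw [C.e_neg hr', h1, h1, h1, h1]
    by_cases h1 : 0 ≤ D.act a⁻¹ r <;> by_cases h2 : 0 ≤ D.act b⁻¹ r <;> by_cases h3 : 0 ≤ D.act c⁻¹ r <;>
      by_cases h4 : 0 ≤ D.act d⁻¹ r <;> simp [h1, h2, h3, h4, C.e_sq]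
  · have hr' : D.Rt r := by simpa using hr
    exact hr'.ne_zero (funext fun l => by have := congrFun e l; simp at this ⊢; omega)
  · simpa using IsRoot.neg (by simpa using hr)

theorem tq_l (a c : D.W) : C.tq a a c = 1 := Finset.prod_eq_one fun _ _ => if_neg fun h => h.2.1 h.1

theorem tq_r (a c : D.W) : C.tq a c c = 1 := Finset.prod_eq_one fun _ _ => if_neg fun h => h.2.1 h.2.2

theorem cond_s {w : D.W} {i : D.I} {r : D.I → ℤ} (hr : D.Rt r) (h1 : ¬ 0 ≤ D.act w⁻¹ r)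
    (h2 : 0 ≤ D.act (w * D.cs.simple i)⁻¹ r) : r = -D.act w (sr i) := by
  have h3 := hr.act w⁻¹
  rw [_root_.mul_inv_rev, inv_simple, act_mul] at h2
  by_contra h4
  have h5 := h3.neg.simple_nonneg (h3.not_nonneg_iff_neg.1 h1) i fun e => h4 (by
    rw [← e, act_neg, neg_neg, Datum.act, rep_apply_inv])
  exact (h3.act _).not_pos_neg h2 (neg_nonneg.1 (by rwa [map_neg] at h5))

theorem tq_up {w : D.W} {i : D.I} (h : 0 ≤ D.act w (sr i)) : C.tq 1 w (w * D.cs.simple i) = 1 :=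
  Finset.prod_eq_one fun r hr => if_neg fun h1 => by
    have h2 := cond_s (by simpa using hr) h1.2.1 h1.2.2
    have h3 := h1.1
    rw [inv_one, act_one, h2, neg_nonneg] at h3
    exact ((rt D i).act w).not_pos_neg h h3

theorem tq_down {w : D.W} {i : D.I} (h : D.act w (sr i) ≤ 0) :
    C.tq 1 w (w * D.cs.simple i) = C.h (D.act w (sr i)) (-1) := by
  have h1 := (rt D i).act w
  rw [tq, Finset.prod_eq_single_of_mem (-D.act w (sr i)) (by simpa using h1.neg) fun r hr h2 =>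
    if_neg fun h3 => h2 (cond_s (by simpa using hr) h3.2.1 h3.2.2), if_pos, C.e_neg h1]
  rw [inv_one, act_one, _root_.mul_inv_rev, inv_simple, act_mul, act_neg, act_inv rfl, act_neg, act_simple, neg_neg]
  exact ⟨neg_nonneg.2 h, fun e => (rt D i).not_pos_neg (sr_nonneg i) (neg_nonneg.1 e), sr_nonneg i⟩

/-- the extended Weyl group -/
@[ext] structure Nt (C : Cv D A) where
  a : A
  w : D.W

noncomputable instance Nt.instMul : Mul C.Nt := ⟨fun x y => ⟨x.a * C.act x.w y.a * C.tq 1 x.w (x.w * y.w), x.w * y.w⟩⟩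

instance Nt.instOne : One C.Nt := ⟨⟨1, 1⟩⟩

noncomputable instance Nt.instInv : Inv C.Nt := ⟨fun x => ⟨(C.act x.w⁻¹ x.a * C.tq 1 x.w⁻¹ (x.w⁻¹ * x.w))⁻¹, x.w⁻¹⟩⟩

theorem mul_a (x y : C.Nt) : (x * y).a = x.a * C.act x.w y.a * C.tq 1 x.w (x.w * y.w) := rfl

theorem mul_w (x y : C.Nt) : (x * y).w = x.w * y.w := rfl

noncomputable instance Nt.instGroup : Group C.Nt := Group.ofLeftAxioms
  (fun x y z => Nt.ext (by
    have h := C.tq_coc 1 x.w (x.w * y.w) (x.w * y.w * z.w)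
    simp only [mul_a, mul_w, map_mul, act_tq, mul_one, ← mul_assoc x.w, Monoid.End.coe_mul, Function.comp_apply]
    calc _ = x.a * C.act x.w y.a * C.act x.w (C.act y.w z.a) *
          (C.tq 1 x.w (x.w * y.w) * C.tq 1 (x.w * y.w) (x.w * y.w * z.w)) := by ac_rfl
      _ = _ := by rw [h]; ac_rfl) (mul_assoc _ _ _))
  (fun x => Nt.ext (by rw [mul_a]; exact (congrArg₂ _ ((one_mul _).trans (C.act_one' _)) (C.tq_l _ _)).trans (mul_one _))
    (one_mul _))
  fun x => Nt.ext (by rw [mul_a, mul_assoc]; exact inv_mul_cancel _) (inv_mul_cancel _)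

/-- the torus -/
def j : A →* C.Nt where
  toFun a := ⟨a, 1⟩
  map_one' := rfl
  map_mul' a b := Nt.ext (by rw [mul_a, C.act_one', C.tq_l, mul_one]) (one_mul _).symm

/-- the canonical lifts -/
def wl (w : D.W) : C.Nt := ⟨1, w⟩

theorem mul_j (a : A) (w : D.W) (b : A) : (⟨a, w⟩ : C.Nt) * C.j b = ⟨a * C.act w b, w⟩ :=
  Nt.ext (by rw [mul_a]; exact (congrArg _ ((congrArg _ (mul_one _)).trans (C.tq_r _ _))).trans (mul_one _)) (mul_one _)

theorem j_mul (a b : A) (w : D.W) : C.j a * ⟨b, w⟩ = ⟨a * b, w⟩ :=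
  Nt.ext (by rw [mul_a]; exact (congrArg₂ _ (congrArg _ (C.act_one' _)) (C.tq_l _ _)).trans (mul_one _)) (one_mul _)

theorem mul_wl (a : A) (w v : D.W) : (⟨a, w⟩ : C.Nt) * C.wl v = ⟨a * C.tq 1 w (w * v), w * v⟩ :=
  Nt.ext (by rw [mul_a]; exact congrArg (· * _) ((congrArg _ (map_one _)).trans (mul_one _))) rfl

theorem j_inj : Function.Injective C.j := fun _ _ h => congrArg Nt.a h

theorem conj_j (x : C.Nt) (b : A) : x * C.j b = C.j (C.act x.w b) * x := by
  obtain ⟨a, w⟩ := x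
  rw [mul_j, j_mul, mul_comm]

theorem wl_up {w : D.W} {i : D.I} (h : 0 ≤ D.act w (sr i)) : C.wl w * C.wl (D.cs.simple i) = C.wl (w * D.cs.simple i) := by
  refine (C.mul_wl 1 _ _).trans ?_
  rw [C.tq_up h, mul_one, wl]

theorem wl_sq (i : D.I) : C.wl (D.cs.simple i) * C.wl (D.cs.simple i) = C.j (C.h (sr i) (-1)) := by
  refine (C.mul_wl 1 _ _).trans ?_
  rw [C.tq_down (by rw [act_simple]; exact neg_nonpos.2 (sr_nonneg i)), act_simple, C.e_neg (rt D i), one_mul,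
    simple_mul_simple_self]
  rfl

theorem hom_of_gen {H : Type} [Group H] {f : C.Nt → H} (h2 : ∀ x a, f (x * C.j a) = f x * f (C.j a))
    (h3 : ∀ x i, f (x * C.wl (D.cs.simple i)) = f x * f (C.wl (D.cs.simple i))) (x y : C.Nt) : f (x * y) = f x * f y := by
  obtain ⟨a, w⟩ := y
  induction w using ind_up D.cs with
  | h1 => exact h2 x a
  | h w i h ih =>
    have : (⟨a, w * D.cs.simple i⟩ : C.Nt) = ⟨a, w⟩ * C.wl (D.cs.simple i) := by
      rw [mul_wl, C.tq_up (up_iff.1 h), mul_one]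
    rw [this, ← mul_assoc, h3, h3, ih, mul_assoc]

variable (P : Pin D)

theorem nw_simple (i : D.I) : P.nw (D.cs.simple i) = P.n i := by
  have := P.nw_up (w := 1) (i := i) (by simp)
  rwa [one_mul, P.nw_one, one_mul] at this

/-- the projection onto `N` -/
noncomputable def pr : C.Nt →* Y := MonoidHom.mk' (fun x => C.π x.a * P.nw x.w) (C.hom_of_gen (f := fun x => C.π x.a * P.nw x.w)
  (fun ⟨a, w⟩ b => by
    rw [mul_j]
    show C.π (a * _) * _ = C.π a * P.nw w * (C.π b * P.nw 1)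
    rw [map_mul, C.π_act _ _ (P.rp_nw w), P.nw_one]; group)
  fun ⟨a, w⟩ i => by
    rw [mul_wl]
    show C.π (a * _) * P.nw (w * _) = C.π a * P.nw w * (C.π 1 * P.nw (D.cs.simple i))
    rw [map_one, one_mul, nw_simple]
    rcases ((rt D i).act w).pos_or_neg with h | h
    · rw [C.tq_up h, mul_one, P.nw_up (up_iff.2 h), mul_assoc]
    · rw [C.tq_down h, map_mul, ← C.e_neg ((rt D i).act w), ← act_neg, ← act_simple, ← act_mul, ← C.act_h _ _ _ (rt D i),
        C.π_act _ _ (P.rp_nw _), C.π_h, ← (P.pn i).sq, P.nw_down h]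
      group)

theorem pr_apply (x : C.Nt) : C.pr P x = C.π x.a * P.nw x.w := rfl

theorem pr_j (a : A) : C.pr P (C.j a) = C.π a := (congrArg _ P.nw_one).trans (mul_one _)

theorem pr_wl (w : D.W) : C.pr P (C.wl w) = P.nw w := (congrArg (· * _) (map_one _)).trans (one_mul _)

theorem rp_pr (x : C.Nt) : D.Rp x.w (C.pr P x) := rp_T (C.mem _) (P.rp_nw _)

theorem exists_pr {m : Y} (hm : m ∈ D.NN) : ∃ x, C.pr P x = m := by
  obtain ⟨w, hw⟩ := hm
  obtain ⟨a, ha⟩ := C.surj _ ((P.rp_nw w).inv.unique hw.inv)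
  exact ⟨⟨a⁻¹, w⟩, by rw [pr_apply, map_inv, ha]; group⟩

theorem eq_j {x : C.Nt} (h : C.pr P x ∈ D.T) : x = C.j x.a :=
  Nt.ext rfl (D.rp_unique (C.rp_pr P x) (rp_of_mem h))

/-- conjugation of the lifts of the simple reflections -/
theorem conj_wl (x : C.Nt) {i l : D.I} (h : D.act x.w (sr l) = sr i) {e : kˣ}
    (he : ∀ a, C.pr P x * P.x l a * (C.pr P x)⁻¹ = P.x i (e * a)) :
    x * C.wl (D.cs.simple l) = C.j (C.h (sr i) e) * C.wl (D.cs.simple i) * x := by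
  obtain ⟨a, w⟩ := x
  have h1 := he 1
  rw [pr_apply, _root_.mul_inv_rev, mul_assoc (C.π a), mul_assoc, ← mul_assoc _ (P.nw w)⁻¹, P.nw_x h, ← mul_assoc, Pin.x,
    Pin.x, D.tor' (rt D i) (C.mem a), (D.x_inj _ (rt D i)).eq_iff, mul_one, mul_one, mul_comm,
    mul_right_inj' (P.u i).ne_zero] at h1
  have h2 : 0 ≤ D.act w (sr l) := (sr_nonneg i).trans_eq h.symm
  have h3 : w * D.cs.simple l = D.cs.simple i * w := by
    rw [← mul_inv_eq_iff_eq_mul, ← D.rf_act, h, D.rf_sr]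
  have h4 : C.tq 1 (D.cs.simple i) (D.cs.simple i * w) = 1 := Finset.prod_eq_one fun r hr => if_neg fun h5 => by
    rw [inv_one, act_one, inv_simple, _root_.mul_inv_rev, inv_simple, act_mul] at h5
    obtain rfl : r = sr i := by_contra fun e => h5.2.1 (IsRoot.simple_nonneg (by simpa using hr) h5.1 i e)
    rw [act_simple, act_neg, act_inv h] at h5
    exact (rt D l).not_pos_neg (sr_nonneg l) (neg_nonneg.1 h5.2.2)
  rw [mul_wl, C.tq_up h2, mul_assoc, h3]
  refine Nt.ext ?_ (one_mul _).symm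
  show _ = (C.j _ * (⟨1 * C.act (D.cs.simple i) a * C.tq 1 (D.cs.simple i) (D.cs.simple i * w),
    D.cs.simple i * w⟩ : C.Nt)).a
  rw [j_mul, h4, C.act_s i a e h1]
  simp

/-- the lift of `F` -/
noncomputable def Fn (hq : D.QS) : C.Nt →* C.Nt := MonoidHom.mk' (fun x => ⟨C.Φ x.a, D.Fw x.w⟩) (C.hom_of_gen
  (f := fun x => (⟨C.Φ x.a, D.Fw x.w⟩ : C.Nt))
  (fun ⟨a, w⟩ b => by
    rw [mul_j]
    show (⟨C.Φ (a * _), D.Fw w⟩ : C.Nt) = ⟨C.Φ a, D.Fw w⟩ * ⟨C.Φ b, D.Fw 1⟩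
    rw [map_mul, C.Φ_act, ← mul_j, map_one]
    rfl)
  fun ⟨a, w⟩ i => by
    have h1 : D.act (D.Fw w) (sr (D.σ i)) = D.g (D.act w (sr i)) := by rw [D.g_act w (rt D i), hq.g_sr]
    have h2 := (rt D i).act w
    rw [mul_wl]
    show (⟨C.Φ (a * _), D.Fw (w * _)⟩ : C.Nt) = ⟨C.Φ a, D.Fw w⟩ * ⟨C.Φ 1, D.Fw (D.cs.simple i)⟩
    rw [map_one, map_mul, map_mul, hq.Fw_simple]
    refine Eq.trans ?_ (C.mul_wl _ _ _).symm
    congr 2
    rcases h2.pos_or_neg with h | h
    · rw [C.tq_up h, C.tq_up (h1 ▸ hq _ h2 h), map_one]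
    · rw [C.tq_down h, C.tq_down (h1 ▸ (D.g_root _ h2).not_nonneg_iff.1 fun e =>
        h2.not_pos_neg ((hq.nonneg_iff h2).1 e) h), C.Φ_h _ _ h2, h1]
      congr 1
      ext
      rw [Units.val_pow_eq_pow_val, Units.val_neg, Units.val_one, neg_one_pow_char_pow])

variable (hq : D.QS)

theorem Fn_j (a : A) : C.Fn hq (C.j a) = C.j (C.Φ a) := Nt.ext rfl (map_one D.Fw)

theorem Fn_wl (i : D.I) : C.Fn hq (C.wl (D.cs.simple i)) = C.wl (D.cs.simple (D.σ i)) :=
  Nt.ext (map_one C.Φ) (hq.Fw_simple i)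

theorem pr_Fn (h : P.St) (x : C.Nt) : C.pr P (C.Fn hq x) = F (C.pr P x) := by
  rw [pr_apply, pr_apply, map_mul, P.F_nw hq h, ← C.π_Φ]
  rfl

end Cv

end Cfsg.Agent.KZ.Mts
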