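import Cfsg.Agent.KZ.Mts.Rk2
import Cfsg.Agent.Mrg.ParSys.Core
import Cfsg.Agent.DL.Dat.Lang

/-!
# The canonical representatives of the Weyl group (helper2)
-/

set_option autoImplicit false
set_option linter.unusedSectionVars false
set_option maxHeartbeats 400000

namespace Cfsg.Agent.KZ.Mts

open CoxeterSystem Cfsg.Agent.DL Cfsg.Agent.Nodes.Reps Cfsg.Agent.Nodes.BNOf Cfsg.Agent.Nodes
  Cfsg.Agent.ChevalleyStructure.CoxeterGeom Cfsg.Agent.Tits.Roots Matrix

theorem ind_up {I W : Type} [Group W] {M : CoxeterMatrix I} (cs : CoxeterSystem M W) {P : W → Prop} (h1 : P 1)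
    (h : ∀ w i, cs.length w < cs.length (w * cs.simple i) → P w → P (w * cs.simple i)) (w : W) : P w := by
  induction hn : cs.length w using Nat.strong_induction_on generalizing w with
  | _ n ih =>
    by_cases h0 : w = 1
    · rwa [h0]
    obtain ⟨i, hi⟩ := cs.exists_rightDescent_of_ne_one h0
    have := h (w * cs.simple i) i (by rwa [simple_mul_simple_cancel_right]) (ih _ (hn ▸ hi) _ rfl)
    rwa [simple_mul_simple_cancel_right] at this

variable {p : ℕ} [Fact p.Prime] {k : Type} [Field k] [CharP k p] [IsAlgClosed k] {Y : Type} [Group Y] {N : Type}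
  [Fintype N] [DecidableEq N] {ρ : Y →* GL N k} {F : MulAut Y} {G : Subgroup Y} {D : Datum p ρ F G}

variable (D) in
/-- a pinning -/
structure Pin where
  u : D.I → kˣ
  n : D.I → Y
  pn : ∀ i, Pn D i (u i) (n i)

theorem up_iff {w : D.W} {i : D.I} : D.cs.length w < D.cs.length (w * D.cs.simple i) ↔ 0 ≤ D.act w (sr i) :=
  lt_iff' D.cs D.h w i

theorem down_iff {w : D.W} {i : D.I} : D.cs.length (w * D.cs.simple i) < D.cs.length w ↔ D.act w (sr i) ≤ 0 :=
  lt_iff D.cs D.h w i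

theorem sr_inj {i j : D.I} (h : (sr i : D.I → ℤ) = sr j) : i = j := by
  by_contra h1
  simpa [sr_self, sr_ne h1] using congrFun h i

theorem act_one (z : D.I → ℤ) : D.act 1 z = z := by rw [Datum.act, map_one, Module.End.one_apply]

theorem act_inv {w : D.W} {z z' : D.I → ℤ} (h : D.act w z = z') : D.act w⁻¹ z' = z := by
  rw [← h, Datum.act, Datum.act, rep_inv_apply]

theorem act_simple (i : D.I) : D.act (D.cs.simple i) (sr i) = -sr i := rep_simple_sr _ _ i

theorem act_neg (w : D.W) (z : D.I → ℤ) : D.act w (-z) = -D.act w z := map_neg _ _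

theorem nonpos_add {i : D.I} {r : D.I → ℤ} (hr : D.Rt r) (h0 : r ≤ 0) (h1 : r ≠ -sr i) {c : ℤ}
    (h : D.Rt (r + c • sr i)) : r + c • sr i ≤ 0 := by
  refine h.pos_or_neg.resolve_left fun h2 => h1 (neg_eq_iff_eq_neg.1 (hr.neg.eq_sr (neg_nonneg.2 h0) i fun l hl => ?_))
  have h3 := h2 l
  have h4 := h0 l
  simp only [Pi.add_apply, Pi.smul_apply, sr_ne hl, smul_zero, add_zero, Pi.zero_apply, Pi.neg_apply] at h3 h4 ⊢
  omega

namespace Pin

variable (P : Pin D)

/-- the pinned coordinates -/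
def x (i : D.I) (a : k) : Y := D.x (sr i) (P.u i * a)

/-- the canonical representatives -/
noncomputable def nw (w : D.W) : Y := ((D.cs.exists_isReduced w).choose.map P.n).prod

theorem rp (i : D.I) : D.Rp (D.cs.simple i) (P.n i) := (P.pn i).rp

theorem nw_word {ω : List D.I} (h : D.cs.IsReduced ω) : P.nw (D.cs.wordProd ω) = (ω.map P.n).prod := by
  refine ParSys.Words.matsumoto D.cs P.n (fun i j hij _ => ?_) (D.cs.exists_isReduced _).choose_spec.1 h
    (D.cs.exists_isReduced _).choose_spec.2.symm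
  rcases D.h.rel i j hij with ⟨h0, h1, -⟩ | ⟨h0, h1, h2⟩ | ⟨h0, ⟨h1, h2⟩ | ⟨h1, h2⟩⟩ | ⟨h0, ⟨h1, h2⟩ | ⟨h1, h2⟩⟩ <;>
    simp only [h0, ParSys.alt_cons, ParSys.alt_zero, List.map_cons, List.map_nil, List.prod_cons, List.prod_nil, mul_one]
  exacts [braid2 hij h1 (P.pn i) (P.pn j), braid3 hij h1 h2 (P.pn i) (P.pn j), braid4 h1 h2 (P.pn i) (P.pn j),
    (braid4 h2 h1 (P.pn j) (P.pn i)).symm, braid6 h1 h2 (P.pn i) (P.pn j), (braid6 h2 h1 (P.pn j) (P.pn i)).symm]

theorem nw_one : P.nw 1 = 1 := P.nw_word (ω := []) (by simp [CoxeterSystem.IsReduced])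

theorem nw_up {w : D.W} {i : D.I} (h : D.cs.length w < D.cs.length (w * D.cs.simple i)) :
    P.nw (w * D.cs.simple i) = P.nw w * P.n i := by
  obtain ⟨ω, hω, rfl⟩ := D.cs.exists_isReduced w
  have h1 := D.cs.length_mul_simple (D.cs.wordProd ω) i
  have h2 := hω.eq
  rw [P.nw_word hω, ← wordProd_concat, P.nw_word (by
    rw [CoxeterSystem.IsReduced, wordProd_concat, List.length_concat]; omega), List.map_concat, List.prod_concat]

theorem nw_up' {w : D.W} {i : D.I} (h : D.cs.length w < D.cs.length (D.cs.simple i * w)) :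
    P.nw (D.cs.simple i * w) = P.n i * P.nw w := by
  obtain ⟨ω, hω, rfl⟩ := D.cs.exists_isReduced w
  have h1 := D.cs.length_simple_mul (D.cs.wordProd ω) i
  have h2 := hω.eq
  rw [P.nw_word hω, ← wordProd_cons, P.nw_word (by
    rw [CoxeterSystem.IsReduced, wordProd_cons, List.length_cons]; omega), List.map_cons, List.prod_cons]

theorem nw_down {w : D.W} {i : D.I} (h : D.act w (sr i) ≤ 0) : P.nw w = P.nw (w * D.cs.simple i) * P.n i := by
  rw [← P.nw_up (by rw [simple_mul_simple_cancel_right]; exact down_iff.2 h), simple_mul_simple_cancel_right]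

theorem rp_nw (w : D.W) : D.Rp w (P.nw w) := by
  induction w using ind_up D.cs with
  | h1 => rw [nw_one]; exact rp_one
  | h w i h ih => rw [P.nw_up h]; exact ih.mul (P.rp i)

theorem nw_n {w : D.W} {i j : D.I} (h : D.act w (sr j) = sr i) : P.nw w * P.n j = P.n i * P.nw w := by
  have h1 := up_iff.2 (h ▸ sr_nonneg i)
  have h2 : w * D.cs.simple j = D.cs.simple i * w := by
    rw [← mul_inv_eq_iff_eq_mul, ← D.rf_act, h, D.rf_sr]
  rw [← P.nw_up h1, h2, P.nw_up' (h2 ▸ h1)]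

theorem nw_x_even {j : D.I} (hj : ∀ l, Even (D.A j l)) (w : D.W) : ∀ i, D.act w (sr j) = sr i → ∀ a,
    P.nw w * P.x j a * (P.nw w)⁻¹ = P.x i a := by
  induction hn : D.cs.length w using Nat.strong_induction_on generalizing w with
  | _ n ih =>
    intro i hw a
    by_cases h0 : w = 1
    · rw [h0, act_one] at hw
      rw [h0, nw_one, one_mul, inv_one, mul_one, sr_inj hw]
    obtain ⟨l, hl⟩ := D.cs.exists_rightDescent_of_ne_one h0
    replace hl : D.cs.length (w * D.cs.simple l) < D.cs.length w := hl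
    have h1 := down_iff.1 hl
    have hlj : l ≠ j := fun e => (rt D i).not_pos_neg (sr_nonneg i) (by rwa [e, hw] at h1)
    have h2 : D.act w (sr l) ≠ -sr i := fun e => (rt D l).not_pos_neg (sr_nonneg l) (by
      rw [← act_inv e, act_neg, act_inv hw]; exact neg_nonpos.2 (sr_nonneg j))
    have h3 : ∀ c, D.act w (v2 l j 1 c) = D.act w (sr l) + c • sr i := fun c => by
      rw [← hw, v2, one_smul, Datum.act, map_add, map_zsmul]
    have h4 := hj l
    rcases D.h.rel l j hlj with ⟨-, h5, -⟩ | ⟨-, -, h6⟩ | ⟨-, ⟨h5, h6⟩ | ⟨-, h6⟩⟩ | ⟨-, ⟨-, h6⟩ | ⟨-, h6⟩⟩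
    · rw [P.nw_down h1, ← ih _ (hn ▸ hl) _ rfl i (by rw [act_mul, ← hw, ← v2_01 (i := l), act_l, h5]; rfl) a, x,
        ← a1_x hlj h5 (P.pn l) (P.u j * a)]
      conv_rhs => rw [← a1_x hlj h5 (P.pn l) (P.u j * a)]
      group
    · rw [h6] at h4; exact absurd h4 (by decide)
    · have e1 : D.act (w * D.cs.simple l) (sr j) = D.act w (v2 l j 1 1) := by
        rw [act_mul, ← v2_01 (i := l), act_l, h5]; rfl
      have e2 : D.act (w * D.cs.simple l * D.cs.simple j) (sr l) = D.act w (v2 l j 1 2) := by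
        rw [act_mul, act_mul, ← v2_10 (j := j), act_r, act_l, h5, h6]; rfl
      have d1 : D.act (w * D.cs.simple l) (sr j) ≤ 0 := by
        have := (rt D j).act (w * D.cs.simple l)
        rw [← Datum.act, e1, h3] at this
        rw [e1, h3]
        exact nonpos_add ((rt D l).act w) h1 h2 this
      have d2 : D.act (w * D.cs.simple l * D.cs.simple j) (sr l) ≤ 0 := by
        have := (rt D l).act (w * D.cs.simple l * D.cs.simple j)
        rw [← Datum.act, e2, h3] at this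
        rw [e2, h3]
        exact nonpos_add ((rt D l).act w) h1 h2 this
      rw [P.nw_down h1, P.nw_down d1, P.nw_down d2, ← ih _ (hn ▸ (down_iff.2 d2).trans ((down_iff.2 d1).trans hl)) _ rfl i
        (by rw [act_mul, act_mul, act_mul, ← hw, ← v2_01 (i := l), act_l, act_r, act_l, h5, h6]; rfl) a, x]
      conv_rhs => rw [← b2_x hlj h5 h6 (P.pn l) (P.pn j) (P.u j * a)]
      group
    all_goals rw [h6] at h4; exact absurd h4 (by decide)

/-- the canonical representatives respect the pinning -/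
theorem nw_x {w : D.W} {i j : D.I} (h : D.act w (sr j) = sr i) (a : k) : P.nw w * P.x j a * (P.nw w)⁻¹ = P.x i a := by
  obtain ⟨e, he⟩ := exists_scal (P.rp_nw w) h (P.u j) (P.u i)
  have h1 := (P.pn j).conj_eq (P.pn i) (P.rp_nw w) h he
  rw [P.nw_n h, mul_inv_cancel_right, eq_comm, mul_eq_right, ← rp_hh (P.rp_nw w) h, mul_inv_eq_one, mul_eq_left] at h1
  have h2 : ∀ l, e ^ D.A j l = 1 := fun l => Units.ext (by rw [← pairing_sr, ← χ_hh, h1, D.χ_one, Units.val_one])
  by_cases h3 : e = 1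
  · rw [x, he, h3, Units.val_one, one_mul, x]
  refine P.nw_x_even (fun l => Int.not_odd_iff_even.1 fun ⟨m, hm⟩ => h3 ?_) w i h a
  have h4 := h2 l
  rwa [hm, _root_.zpow_add, _root_.zpow_mul, ← D.h.diag j, h2, _root_.one_zpow, one_mul, zpow_one] at h4

theorem x_add (i : D.I) (a b : k) : P.x i (a + b) = P.x i a * P.x i b := by rw [x, mul_add, D.x_add _ (rt D i), x, x]

theorem x_zero (i : D.I) : P.x i 0 = 1 := by rw [x, mul_zero, D.x_zero (rt D i)]

theorem x_neg (i : D.I) (a : k) : P.x i (-a) = (P.x i a)⁻¹ := by rw [x, mul_neg, D.x_neg (rt D i), x]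

theorem x_mem (i : D.I) (a : k) : P.x i a ∈ D.X (sr i) := D.x_mem (rt D i) _

theorem exists_x {i : D.I} {z : Y} (h : z ∈ D.X (sr i)) : ∃ a, P.x i a = z := by
  obtain ⟨a, rfl⟩ := (D.mem_X _ (rt D i) _).1 h
  exact ⟨(P.u i)⁻¹ * a, by rw [x, Units.mul_inv_cancel_left]⟩

/-- the pinning is stable under `F` -/
def St : Prop := ∀ i a, F (P.x i a) = P.x (D.σ i) (a ^ p ^ D.ex (sr i))

theorem F_n (hq : D.QS) (h : P.St) (i : D.I) : F (P.n i) = P.n (D.σ i) := ((P.pn i).mapF hq (h i)).unique (P.pn _)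

theorem F_nw (hq : D.QS) (h : P.St) (w : D.W) : F (P.nw w) = P.nw (D.Fw w) := by
  induction w using ind_up D.cs with
  | h1 => rw [map_one D.Fw, nw_one, map_one]
  | h w i h1 ih =>
    rw [P.nw_up h1, map_mul, map_mul, hq.Fw_simple, ih, P.F_n hq h, P.nw_up (up_iff.2 ?_)]
    rw [← hq.g_sr, ← D.g_act w (rt D i)]
    exact hq _ ((rt D i).act w) (up_iff.1 h1)

end Pin

theorem exists_pin (hq : D.QS) : ∃ P : Pin D, P.St := by
  choose c hc0 hc using fun i => D.F_x _ (rt D i)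
  have h1 : (1 - Matrix.of fun j => D.ψ (sr j)).det ≠ 0 := fun h0 => by
    obtain ⟨v, hv, h⟩ := Matrix.exists_vecMul_eq_zero_iff.2 h0
    have h2 : v ᵥ* (Matrix.of fun j => D.ψ (sr j)) = D.ψ v := by
      conv_rhs => rw [pi_eq_sum_univ' v, map_sum]
      rw [vecMul_eq_sum]
      exact Finset.sum_congr rfl fun j _ => (map_zsmul D.ψ _ _).symm
    rw [vecMul_sub, vecMul_one, h2, sub_eq_zero] at h
    refine D.det_Mx_sub_one_ne_zero (Matrix.exists_vecMul_eq_zero_iff.1 ⟨D.wt v, fun e => hv (D.wt_injective ?_), ?_⟩)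
    · rw [e, map_zero]
    · rw [vecMul_sub, vecMul_one, ← D.wt_ψ, ← h, sub_self]
  obtain ⟨u, hu⟩ := mon_surj h1 fun j => Units.mk0 _ (hc0 (D.σ.symm j))
  choose n hn using fun i => exists_pn (D := D) i (u i)
  refine ⟨⟨u, n, hn⟩, fun i a => ?_⟩
  have h2 := congrFun hu (D.σ i)
  rw [mon_sub, mon_one, Pi.mul_apply, Pi.inv_apply, mon_apply, mul_inv_eq_iff_eq_mul, Equiv.symm_apply_apply] at h2
  rw [Pin.x, Pin.x, hc, hq.g_sr, mul_pow, ← mul_assoc]
  congr 2
  show _ = (u (D.σ i) : k)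
  rw [h2, Units.val_mul, show (Matrix.of fun j => D.ψ (sr j)) (D.σ i) = D.ψ (sr (D.σ i)) from rfl, ← hq.g_sr,
    D.ψ_g (rt D i), chr_zsmul, sr, chr_single, ← Nat.cast_pow, zpow_natCast, Units.val_pow_eq_pow_val, Units.val_mk0]

end Cfsg.Agent.KZ.Mts
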