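import Cfsg.Agent.KZ.Mts.Pin

/-!
# Rank two: braid relations of the pinned representatives (helper2)
-/

set_option autoImplicit false
set_option linter.unusedSectionVars false
set_option maxHeartbeats 400000

namespace Cfsg.Agent.KZ.Mts

open CoxeterSystem Cfsg.Agent.DL Cfsg.Agent.Nodes.Reps Cfsg.Agent.Nodes.BNOf Cfsg.Agent.Nodes
  Cfsg.Agent.ChevalleyStructure.CoxeterGeom Cfsg.Agent.Tits.Roots Matrix
open scoped commutatorElement Pointwise

section

variable {I : Type} [DecidableEq I] {i j : I} {a b c d : ℤ}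

/-- vectors of the plane of two simple roots -/
def v2 (i j : I) (a b : ℤ) : I → ℤ := a • sr i + b • sr j

theorem v2_swap : v2 i j a b = v2 j i b a := add_comm _ _

theorem v2_10 : v2 i j 1 0 = sr i := by simp [v2]

theorem v2_01 : v2 i j 0 1 = sr j := by simp [v2]

theorem v2_neg : -v2 i j a b = v2 i j (-a) (-b) := by simp [v2, add_comm]

theorem v2_l (hij : i ≠ j) : v2 i j a b i = a := by simp [v2, sr_self, sr_ne hij]

theorem v2_r (hij : i ≠ j) : v2 i j a b j = b := by simp [v2, sr_self, sr_ne hij.symm]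

theorem v2_inj (hij : i ≠ j) (h : v2 i j a b = v2 i j c d) : a = c ∧ b = d :=
  ⟨by simpa only [v2_l hij] using congrFun h i, by simpa only [v2_r hij] using congrFun h j⟩

end

variable {p : ℕ} [Fact p.Prime] {k : Type} [Field k] [CharP k p] [IsAlgClosed k] {Y : Type} [Group Y] {N : Type}
  [Fintype N] [DecidableEq N] {ρ : Y →* GL N k} {F : MulAut Y} {G : Subgroup Y} {D : Datum p ρ F G}
  {i j : D.I} {a b c d : ℤ} {u v : kˣ} {n n' : Y}

theorem pairing_v2 (l : D.I) : pairing D.A l (v2 i j a b) = a * D.A l i + b * D.A l j := by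
  rw [v2, pairing_add, pairing_smul, pairing_smul, pairing_sr, pairing_sr]

theorem act_l : D.act (D.cs.simple i) (v2 i j a b) = v2 i j (-a - b * D.A i j) b := by
  rw [Datum.act, rep_simple_eq, pairing_v2, D.h.diag, v2, v2]
  module

theorem act_r : D.act (D.cs.simple j) (v2 i j a b) = v2 i j a (-b - a * D.A j i) := by rw [v2_swap, act_l, v2_swap]

theorem act_mul (w w' : D.W) (z : D.I → ℤ) : D.act (w * w') z = D.act w (D.act w' z) := rep_mul_apply _ _ _ _ _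

section

variable (hij : i ≠ j)
include hij

theorem coh (h : D.Rt (v2 i j a b)) : (0 ≤ a ∧ 0 ≤ b) ∨ (a ≤ 0 ∧ b ≤ 0) :=
  h.pos_or_neg.imp (fun h => ⟨(h i).trans_eq (v2_l hij), (h j).trans_eq (v2_r hij)⟩)
    fun h => ⟨(v2_l hij).symm.trans_le (h i), (v2_r hij).symm.trans_le (h j)⟩

omit hij in
theorem unit_l (h : D.Rt (v2 i j a b)) (hb : b = 0) : a = 1 ∨ a = -1 :=
  Int.isUnit_iff.1 (isUnit_of_smul D.cs D.h h a (y := sr i) (by simp [v2, hb]))

omit hij in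
theorem unit_r (h : D.Rt (v2 i j a b)) (ha : a = 0) : b = 1 ∨ b = -1 := unit_l (i := j) (j := i) (by rwa [v2_swap]) ha

theorem btwn {z : D.I → ℤ} (h : Btwn D.cs D.h (v2 i j a b) (v2 i j c d) z) : ∃ e f, z = v2 i j e f ∧ D.Rt (v2 i j e f) ∧
    ∃ m s t : ℤ, 0 < m ∧ 0 < s ∧ 0 < t ∧ m * e = s * a + t * c ∧ m * f = s * b + t * d := by
  obtain ⟨hz, m, s, t, hm, hs, ht, e⟩ := h
  have h1 : z = v2 i j (z i) (z j) := funext fun l => by
    by_cases h1 : l = i
    · rw [h1, v2_l hij]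
    by_cases h2 : l = j
    · rw [h2, v2_r hij]
    simpa [v2, sr_ne h1, sr_ne h2, hm.ne'] using congrFun e l
  exact ⟨_, _, h1, h1 ▸ hz, m, s, t, hm, hs, ht, by simpa [v2_l hij] using congrFun e i,
    by simpa [v2_r hij] using congrFun e j⟩

theorem comm_v2 {S : Set (D.I → ℤ)} {r r' : D.I → ℤ} (e1 : v2 i j a b = r) (e2 : v2 i j c d = r') (h1 : D.Rt r)
    (h2 : D.Rt r') (h3 : ¬ (a = c ∧ b = d)) (h4 : ¬ (a = -c ∧ b = -d))
    (h : ∀ e f m s t : ℤ, D.Rt (v2 i j e f) → 0 < m → 0 < s → 0 < t → m * e = s * a + t * c →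
      m * f = s * b + t * d → v2 i j e f ∈ S) (y z : k) : ⁅D.x r y, D.x r' z⁆ ∈ D.S S := by
  subst e1 e2
  exact RGD.Sup_mono (fun _ hc => by
    obtain ⟨e, f, rfl, h5, m, s, t, hm, hs, ht, h6, h7⟩ := btwn hij hc
    exact h e f m s t h5 hm hs ht h6 h7)
    (D.comm h1 h2 (fun e => h3 (v2_inj hij e)) (fun e => h4 (v2_inj hij (e.trans v2_neg))) (D.x_mem h1 y) (D.x_mem h2 z))

theorem cls_a1 (h1 : D.A i j = 0) (h : D.Rt (v2 i j a b)) : a = 0 ∨ b = 0 := by
  have h2 := h.act (D.cs.simple i)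
  rw [← Datum.act, act_l, h1] at h2
  have := coh hij h
  have := coh hij h2
  omega

theorem cls_a2 (h1 : D.A i j = -1) (h2 : D.A j i = -1) (h : D.Rt (v2 i j a b)) (ha : 0 < a) (hb : 0 < b) :
    a = 1 ∧ b = 1 := by
  have h3 := h.act (D.cs.simple i)
  have h4 := h.act (D.cs.simple j)
  rw [← Datum.act, act_l, h1] at h3
  rw [← Datum.act, act_r, h2] at h4
  have := coh hij h3
  have := coh hij h4
  have := unit_r h3
  omega

theorem cls_b2 (h1 : D.A i j = -1) (h2 : D.A j i = -2) (h : D.Rt (v2 i j a b)) (ha : 0 < a) (hb : 0 < b) :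
    a = 1 ∧ (b = 1 ∨ b = 2) := by
  have h3 := h.act (D.cs.simple i)
  have h4 := h.act (D.cs.simple j)
  rw [← Datum.act, act_l, h1] at h3
  rw [← Datum.act, act_r, h2] at h4
  have h5 := h3.act (D.cs.simple j)
  rw [← Datum.act, act_r, h2] at h5
  have := coh hij h3
  have := coh hij h4
  have := coh hij h5
  have := unit_r h3
  have := unit_l h4
  omega

end

theorem comm_of_S_empty {y z : Y} (h : ⁅y, z⁆ ∈ D.S ∅) : y * z = z * y := by
  rwa [Datum.S, OppDec.Sup_empty, Subgroup.mem_bot, commutatorElement_eq_one_iff_mul_comm] at h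

theorem mem_of_S_single {z : Y} {r : D.I → ℤ} (hr : D.Rt r) (h : z ∈ D.S {r}) : ∃ s, D.x r s = z :=
  (D.mem_X r hr z).1 ((RGD.Sup_le (by rintro _ rfl; exact le_rfl) : _ ≤ D.X r) h)

theorem Pn.key (h : Pn D i u n) (z : Y) : MulAut.conj (D.x (sr i) u) (MulAut.conj n (MulAut.conj (D.x (sr i) u)
    (MulAut.conj n (MulAut.conj (D.x (sr i) u) (MulAut.conj n z))))) = z := by
  simp only [← MulAut.mul_apply, ← map_mul, ← mul_assoc]
  have := h.cube
  simp only [← mul_assoc] at this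
  rw [this, map_one, MulAut.one_apply]

theorem Pn.sq_x (h : Pn D i u n) {r : D.I → ℤ} (hr : D.Rt r) (s : k) :
    n * (n * D.x r s * n⁻¹) * n⁻¹ = D.x r (((-1 : kˣ) ^ pairing D.A i r : kˣ) * s) := by
  rw [← hh_x hr, ← h.sq]; group

theorem x_x_inj {r r' : D.I → ℤ} (hr : D.Rt r) (hr' : D.Rt r') (h : r ≠ r') {s t : k} (e : D.x r s * D.x r' t = 1) :
    s = 0 ∧ t = 0 := by
  have h1 := D.eq_one_of_mem_X_X hr hr' h (D.x_mem hr s) (eq_inv_of_mul_eq_one_left e ▸ inv_mem (D.x_mem hr' t))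
  rw [h1, one_mul] at e
  exact ⟨(D.x_eq_one_iff hr).1 h1, (D.x_eq_one_iff hr').1 e⟩

/-- type `A₁ × A₁` -/
theorem a1_x (hij : i ≠ j) (h1 : D.A i j = 0) (h : Pn D i u n) (s : k) : n * D.x (sr j) s * n⁻¹ = D.x (sr j) s := by
  have h2 : ∀ t, MulAut.conj (D.x (sr i) u) (D.x (sr j) t) = D.x (sr j) t := fun t => by
    rw [MulAut.conj_apply, mul_inv_eq_iff_eq_mul]
    refine comm_of_S_empty (comm_v2 hij v2_10 v2_01 (rt D i) (rt D j) (by omega) (by omega)
      (fun e f m s t h3 _ _ _ _ _ => ?_) _ _)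
    rcases cls_a1 hij h1 h3 with rfl | rfl <;> omega
  obtain ⟨c, -, hc⟩ := D.nact h.rp (rt D j)
  rw [← v2_01 (i := i), act_l, h1, mul_zero, neg_zero, sub_zero, v2_01] at hc
  have h3 := h.key (D.x (sr j) s)
  have h4 := h.sq_x (rt D j) (c * s)
  rw [pairing_sr, h1, zpow_zero, Units.val_one, one_mul] at h4
  simp only [MulAut.conj_apply n, hc, h2] at h3
  rw [hc, hc, h3] at h4
  rw [hc, h4]

/-- type `A₂` -/
theorem a2_comm (hij : i ≠ j) (h1 : D.A i j = -1) (h2 : D.A j i = -1) (h : Pn D i u n) (s : k) :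
    n * D.x (sr j) s * n⁻¹ = ⁅D.x (sr i) u, D.x (sr j) s⁆ := by
  have e1 : D.act (D.cs.simple i) (sr j) = v2 i j 1 1 := by rw [← v2_01 (i := i), act_l, h1]; rfl
  have hβ : D.Rt (v2 i j 1 1) := e1 ▸ (rt D j).act _
  have e2 : D.act (D.cs.simple i) (v2 i j 1 1) = sr j := by rw [act_l, h1, ← v2_01 (i := i)]; rfl
  choose φ hφ using fun t => mem_of_S_single hβ (comm_v2 hij v2_10 v2_01 (rt D i) (rt D j) (by omega) (by omega)
    (fun e f m s t h3 _ _ _ _ _ => by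
      obtain ⟨rfl, rfl⟩ := cls_a2 hij h1 h2 h3 (by nlinarith) (by nlinarith)
      rfl) u t)
  have h3 : ∀ t, MulAut.conj (D.x (sr i) u) (D.x (v2 i j 1 1) t) = D.x (v2 i j 1 1) t := fun t => by
    rw [MulAut.conj_apply, mul_inv_eq_iff_eq_mul]
    refine comm_of_S_empty (comm_v2 hij v2_10 rfl (rt D i) hβ (by omega) (by omega)
      (fun e f m s t h3 _ _ _ _ _ => ?_) _ _)
    obtain ⟨rfl, rfl⟩ := cls_a2 hij h1 h2 h3 (by nlinarith) (by nlinarith)
    omega
  have h4 : ∀ t t', D.x (sr j) t * D.x (v2 i j 1 1) t' = D.x (v2 i j 1 1) t' * D.x (sr j) t := fun t t' => by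
    refine comm_of_S_empty (comm_v2 hij v2_01 rfl (rt D j) hβ (by omega) (by omega)
      (fun e f m s t h3 _ _ _ _ _ => ?_) _ _)
    obtain ⟨rfl, rfl⟩ := cls_a2 hij h1 h2 h3 (by nlinarith) (by nlinarith)
    omega
  have h5 : ∀ t, MulAut.conj (D.x (sr i) u) (D.x (sr j) t) = D.x (v2 i j 1 1) (φ t) * D.x (sr j) t := fun t => by
    rw [hφ, commutatorElement_def, inv_mul_cancel_right, MulAut.conj_apply]
  obtain ⟨κ, -, hκ⟩ := D.nact h.rp (rt D j)
  obtain ⟨κ', -, hκ'⟩ := D.nact h.rp hβ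
  rw [e1] at hκ
  rw [e2] at hκ'
  have h6 := h.sq_x (rt D j) s
  rw [pairing_sr, h1, hκ, hκ', _root_.zpow_neg_one, inv_neg, inv_one, Units.val_neg, Units.val_one, neg_one_mul] at h6
  have h7 := h.key (D.x (sr j) s)
  rw [MulAut.conj_apply n (D.x _ s), hκ, h3, MulAut.conj_apply n (D.x _ _), hκ', h6, h5, map_mul, MulAut.conj_apply n (D.x _ _),
    MulAut.conj_apply n (D.x _ _), hκ, hκ', map_mul, h3, h5, mul_assoc, h4, ← mul_assoc, ← D.x_add _ hβ,
    ← mul_inv_eq_one, mul_assoc, ← D.x_neg (rt D j), ← D.x_add _ (rt D j)] at h7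
  obtain ⟨h8, h9⟩ := x_x_inj hβ (rt D j) (fun e => by simpa using (v2_inj hij (e.trans v2_01.symm)).1) h7
  rw [add_neg_eq_zero] at h9
  rw [h9, mul_neg, add_neg_eq_zero] at h8
  rw [hκ, ← hφ, h8]

theorem scal_one {w : D.W} {m : Y} (hm : D.Rp w m) (hw : D.act w (sr j) = sr i)
    (h : m * D.x (sr j) v * m⁻¹ = D.x (sr i) u) (s : k) : m * D.x (sr j) (v * s) * m⁻¹ = D.x (sr i) (u * s) := by
  obtain ⟨e, he⟩ := exists_scal hm hw v u
  have h1 := he 1
  rw [mul_one, mul_one, h, (D.x_inj _ (rt D i)).eq_iff, eq_comm, mul_eq_left₀ u.ne_zero] at h1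
  rw [he, h1, one_mul]

theorem braid3 (hij : i ≠ j) (h1 : D.A i j = -1) (h2 : D.A j i = -1) (h : Pn D i u n) (h' : Pn D j v n') :
    n * (n' * n) = n' * (n * n') := by
  have hw : D.act (D.cs.simple j * D.cs.simple i) (sr j) = sr i := by
    rw [act_mul, ← v2_01 (i := i), act_l, act_r, h1, h2, ← v2_10 (j := j)]; rfl
  have h3 : n' * n * D.x (sr j) v * (n' * n)⁻¹ = D.x (sr i) u := by
    have h4 := h'.sq_x (rt D i) (-u)
    rw [pairing_sr, h2, _root_.zpow_neg_one, inv_neg, inv_one, Units.val_neg, Units.val_one, neg_one_mul, neg_neg,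
      D.x_neg (rt D i), ← conj_inv, a2_comm hij.symm h2 h1 h', commutatorElement_inv, ← a2_comm hij h1 h2 h] at h4
    rw [← h4]; group
  have h5 := h'.conj_eq h (h'.rp.mul h.rp) hw (e := 1) fun s => by
    rw [scal_one (h'.rp.mul h.rp) hw h3, Units.val_one, one_mul]
  rw [map_one, one_mul, mul_inv_eq_iff_eq_mul] at h5
  rw [← h5, mul_assoc]

theorem braid2 (hij : i ≠ j) (h1 : D.A i j = 0) (h : Pn D i u n) (h' : Pn D j v n') : n * n' = n' * n := by
  have h5 := h'.conj_eq h' h.rp (by rw [← v2_01 (i := i), act_l, h1]; rfl) (e := 1) fun s => by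
    rw [a1_x hij h1 h, Units.val_one, one_mul]
  rwa [map_one, one_mul, mul_inv_eq_iff_eq_mul] at h5

theorem braid_of {w w' : D.W} {m m' : Y} (h : Pn D i u n) (h' : Pn D j v n') (h1 : D.A i j = -1)
    (h2 : D.A j i = -2 ∨ D.A j i = -3) (hm : D.Rp w m) (hm' : D.Rp w' m') (hw : D.act w (sr i) = sr i)
    (hw' : D.act w' (sr j) = sr j) (e1 : m * n = n' * m') (e2 : m' * n' = n * m) : n * m = n' * m' := by
  obtain ⟨e, he⟩ := exists_scal hm hw u u
  obtain ⟨e', he'⟩ := exists_scal hm' hw' v v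
  have h3 := mul_inv_eq_iff_eq_mul.1 (h.conj_eq h hm hw he)
  have h4 := mul_inv_eq_iff_eq_mul.1 (h'.conj_eq h' hm' hw' he')
  have h5 : hh D i e * hh D j e' = 1 := by
    rw [← mul_left_inj (n' * m'), one_mul, mul_assoc, ← mul_assoc _ n', ← h4, e2, ← mul_assoc, ← h3, e1]
  have h6 : ∀ l, e ^ D.A i l * e' ^ D.A j l = 1 := fun l => Units.ext (by
    rw [Units.val_mul, ← pairing_sr, ← pairing_sr, ← χ_hh, ← χ_hh, ← D.χ_mul _ (hh_mem D _ _) (hh_mem D _ _), h5, D.χ_one,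
      Units.val_one])
  have h7 := h6 j
  have h8 := h6 i
  rw [h1, D.h.diag, _root_.zpow_neg_one, inv_mul_eq_one] at h7
  rw [h7, D.h.diag, ← _root_.zpow_mul, ← _root_.zpow_add] at h8
  have h9 : e = 1 := by
    rcases h2 with h2 | h2 <;> rw [h2] at h8
    · exact h7.trans h8
    · rw [h7, show e' = 1 by simpa using h8, _root_.one_zpow]
  rw [← e1, h3, h9, map_one, one_mul]

theorem braid4 (h1 : D.A i j = -1) (h2 : D.A j i = -2) (h : Pn D i u n) (h' : Pn D j v n') :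
    n * (n' * (n * n')) = n' * (n * (n' * n)) :=
  braid_of h h' h1 (.inl h2) (h'.rp.mul (h.rp.mul h'.rp)) (h.rp.mul (h'.rp.mul h.rp))
    (by rw [act_mul, act_mul, ← v2_10 (j := j), act_r, act_l, act_r, h1, h2]; rfl)
    (by rw [act_mul, act_mul, ← v2_01 (i := i), act_l, act_r, act_l, h1, h2]; rfl) (by group) (by group)

theorem braid6 (h1 : D.A i j = -1) (h2 : D.A j i = -3) (h : Pn D i u n) (h' : Pn D j v n') :
    n * (n' * (n * (n' * (n * n')))) = n' * (n * (n' * (n * (n' * n)))) :=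
  braid_of h h' h1 (.inr h2) (h'.rp.mul (h.rp.mul (h'.rp.mul (h.rp.mul h'.rp))))
    (h.rp.mul (h'.rp.mul (h.rp.mul (h'.rp.mul h.rp))))
    (by rw [act_mul, act_mul, act_mul, act_mul, ← v2_10 (j := j), act_r, act_l, act_r, act_l, act_r, h1, h2]; rfl)
    (by rw [act_mul, act_mul, act_mul, act_mul, ← v2_01 (i := i), act_l, act_r, act_l, act_r, act_l, h1, h2]; rfl)
    (by group) (by group)

/-- type `B₂`, `j` short: `n j` inverts the root group of the other short root -/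
theorem b2_inv (hij : i ≠ j) (h1 : D.A i j = -1) (h2 : D.A j i = -2) (h : Pn D j v n) (s : k) :
    n * D.x (v2 i j 1 1) s * n⁻¹ = D.x (v2 i j 1 1) (-s) := by
  have e1 : D.act (D.cs.simple j) (sr i) = v2 i j 1 2 := by rw [← v2_10 (j := j), act_r, h2]; rfl
  have hγ : D.Rt (v2 i j 1 2) := e1 ▸ (rt D i).act _
  have e2 : D.act (D.cs.simple j) (v2 i j 1 2) = sr i := by rw [act_r, h2, ← v2_10 (j := j)]; rfl
  have e3 : D.act (D.cs.simple j) (v2 i j 1 1) = v2 i j 1 1 := by rw [act_r, h2]; rfl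
  have e4 : D.act (D.cs.simple i) (sr j) = v2 i j 1 1 := by rw [← v2_01 (i := i), act_l, h1]; rfl
  have hβ : D.Rt (v2 i j 1 1) := e4 ▸ (rt D j).act _
  obtain ⟨c, -, hc⟩ := D.nact h.rp hβ
  obtain ⟨κ, hκ0, hκ⟩ := D.nact h.rp (rt D i)
  obtain ⟨κ', -, hκ'⟩ := D.nact h.rp hγ
  rw [e3] at hc
  rw [e1] at hκ
  rw [e2] at hκ'
  suffices h3 : c = -1 by rw [hc, h3, neg_one_mul]
  have h3 := h.sq_x hβ 1
  rw [hc, hc, pairing_v2, h2, D.h.diag, (D.x_inj _ hβ).eq_iff] at h3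
  norm_num at h3
  by_contra h4
  have h5 : c = 1 := (mul_self_eq_one_iff.1 h3).resolve_right h4
  have h6 : (2 : k) ≠ 0 := fun e => h4 (by rw [h5]; linear_combination e)
  have h7 := h.sq_x (rt D i) 1
  rw [hκ, hκ', pairing_sr, h2] at h7
  norm_num at h7
  have c1 : ∀ t t', D.x (v2 i j 1 1) t * D.x (v2 i j 1 2) t' = D.x (v2 i j 1 2) t' * D.x (v2 i j 1 1) t := fun t t' => by
    refine comm_of_S_empty (comm_v2 hij rfl rfl hβ hγ (by omega) (by omega) (fun e f m s t h3 _ _ _ _ _ => ?_) _ _)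
    obtain ⟨rfl, rfl | rfl⟩ := cls_b2 hij h1 h2 h3 (by nlinarith) (by nlinarith) <;> omega
  have c2 : ∀ t t', D.x (sr i) t * D.x (v2 i j 1 2) t' = D.x (v2 i j 1 2) t' * D.x (sr i) t := fun t t' => by
    obtain ⟨r, hr⟩ := mem_of_S_single hβ (comm_v2 hij v2_10 rfl (rt D i) hγ (by omega) (by omega)
      (fun e f m s t h3 _ _ _ _ _ => by
        obtain ⟨rfl, rfl | rfl⟩ := cls_b2 hij h1 h2 h3 (by nlinarith) (by nlinarith)
        · rfl
        · omega) t t')
    have h8 := hh_x hβ i (-1) r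
    rw [hr, conjugate_commutatorElement, hh_x (rt D i), hh_x hγ, pairing_sr, pairing_v2, pairing_v2, h1, D.h.diag] at h8
    norm_num at h8
    rw [← hr, (D.x_inj _ hβ).eq_iff] at h8
    rw [← commutatorElement_eq_one_iff_mul_comm, ← hr, D.x_eq_one_iff hβ]
    exact mul_left_cancel₀ h6 (by linear_combination h8)
  have c3 : ∀ t, MulAut.conj (D.x (sr j) v) (D.x (v2 i j 1 2) t) = D.x (v2 i j 1 2) t := fun t => by
    rw [MulAut.conj_apply, mul_inv_eq_iff_eq_mul]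
    refine comm_of_S_empty (comm_v2 hij v2_01 rfl (rt D j) hγ (by omega) (by omega)
      (fun e f m s t h3 _ _ _ _ _ => ?_) _ _)
    obtain ⟨rfl, rfl | rfl⟩ := cls_b2 hij h1 h2 h3 (by nlinarith) (by nlinarith) <;> omega
  choose φ hφ using fun t => mem_of_S_single hγ (comm_v2 hij v2_01 rfl (rt D j) hβ (by omega) (by omega)
    (fun e f m s t h3 _ _ _ _ _ => by
      obtain ⟨rfl, rfl | rfl⟩ := cls_b2 hij h1 h2 h3 (by nlinarith) (by nlinarith)
      · omega
      · rfl) v t)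
  have c4 : ∀ t, MulAut.conj (D.x (sr j) v) (D.x (v2 i j 1 1) t) = D.x (v2 i j 1 2) (φ t) * D.x (v2 i j 1 1) t :=
    fun t => by rw [hφ, commutatorElement_def, inv_mul_cancel_right, MulAut.conj_apply]
  have c5 : ∀ t, ∃ r r', MulAut.conj (D.x (sr j) v) (D.x (sr i) t) =
      D.x (v2 i j 1 1) r * D.x (v2 i j 1 2) r' * D.x (sr i) t := fun t => by
    have h8 := comm_v2 (S := {v2 i j 1 1, v2 i j 1 2}) hij v2_01 v2_10 (rt D j) (rt D i) (by omega) (by omega)
      (fun e f m s t h3 _ _ _ _ _ => by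
        obtain ⟨rfl, rfl | rfl⟩ := cls_b2 hij h1 h2 h3 (by nlinarith) (by nlinarith) <;> simp) v t
    have h9 := (RGD.Sup_le (K := D.X (v2 i j 1 1) ⊔ D.X (v2 i j 1 2)) (by
      rintro _ (rfl | rfl)
      exacts [le_sup_left, le_sup_right])) h8
    rw [← SetLike.mem_coe, Subgroup.coe_mul_of_left_le_normalizer_right _ _ fun y hy =>
      Subgroup.centralizer_le_normalizer _ fun z hz => by
        obtain ⟨t, rfl⟩ := (D.mem_X _ hβ _).1 hy
        obtain ⟨t', rfl⟩ := (D.mem_X _ hγ _).1 hz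
        exact (c1 _ _).symm] at h9
    obtain ⟨y, hy, z, hz, e⟩ := h9
    obtain ⟨r, rfl⟩ := (D.mem_X _ hβ _).1 hy
    obtain ⟨r', rfl⟩ := (D.mem_X _ hγ _).1 hz
    exact ⟨r, r', by rw [show _ * _ = _ from e, commutatorElement_def, inv_mul_cancel_right, MulAut.conj_apply]⟩
  choose ψ χ c5 using c5
  obtain ⟨ni, hi⟩ := exists_pn (D := D) i 1
  have h8 := h.key (D.x (sr i) 1)
  simp only [← MulAut.conj_apply] at hc hκ hκ'
  simp only [map_mul, hc, hκ, hκ', c3, c4, c5, mul_one, h7, h5, one_mul] at h8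
  rw [mul_assoc, mul_assoc, mul_assoc _ (D.x (sr i) _), c2] at h8
  have h9 : D.x (v2 i j 1 1) (ψ 1 + ψ (κ' * χ 1)) * D.x (v2 i j 1 2) (φ (ψ 1) + χ (κ' * χ 1) + κ) =
      D.x (sr i) (1 + -(κ' * χ 1)) := by
    rw [D.x_add _ (rt D i), D.x_neg (rt D i), ← h8, D.x_add _ hβ, D.x_add _ hγ, D.x_add _ hγ]
    simp only [mul_assoc, mul_inv_cancel, mul_one]
    rw [← mul_assoc (D.x _ (ψ (_ * _))), c1, mul_assoc, ← mul_assoc, c1, mul_assoc]
  have hU : ∀ {r}, D.Rt r → 0 ≤ D.act (D.cs.simple i) r → ∀ t, ni * D.x r t * ni⁻¹ ∈ D.U := fun hr h0 t =>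
    RGD.le_Sup (S := RGD.Pos D.cs D.h) ⟨hr.act _, h0⟩ (D.conj_mem hi.rp hr (D.x_mem hr t))
  have h10 : 1 + -(κ' * χ 1) = 0 := by
    refine x_of_U hi.rp ?_
    rw [← h9, ← conj_mul]
    refine mul_mem (hU hβ ?_ _) (hU hγ ?_ _)
    · rw [act_l, h1]
      exact add_nonneg (smul_nonneg (by decide) (sr_nonneg i)) (smul_nonneg (by decide) (sr_nonneg j))
    · rw [act_l, h1]
      exact add_nonneg (smul_nonneg (by decide) (sr_nonneg i)) (smul_nonneg (by decide) (sr_nonneg j))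
  rw [h10, D.x_zero (rt D i), ← add_neg_eq_zero.1 h10] at h9
  obtain ⟨h11, h12⟩ := x_x_inj hβ hγ (fun e => by simpa using (v2_inj hij e).2) h9
  have h13 : ψ 1 = 0 := mul_left_cancel₀ h6 (by linear_combination h11)
  have h14 := c4 0
  rw [D.x_zero hβ, map_one, mul_one, eq_comm, D.x_eq_one_iff hγ] at h14
  rw [h13, h14] at h12
  have h15 := D.x_inj _ (rt D i) h7
  exact h6 (by linear_combination h10 - h15 + κ' * h12)

theorem b2_x (hij : i ≠ j) (h1 : D.A i j = -1) (h2 : D.A j i = -2) (h : Pn D i u n) (h' : Pn D j v n') (s : k) :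
    n * n' * n * D.x (sr j) s * (n * n' * n)⁻¹ = D.x (sr j) s := by
  obtain ⟨c, -, hc⟩ := D.nact h.rp (rt D j)
  rw [show D.act (D.cs.simple i) (sr j) = v2 i j 1 1 by rw [← v2_01 (i := i), act_l, h1]; rfl] at hc
  have h3 := b2_inv hij h1 h2 h' (c * s)
  have h4 := h.sq_x (rt D j) (-s)
  rw [pairing_sr, h1, _root_.zpow_neg_one, inv_neg, inv_one, Units.val_neg, Units.val_one, neg_one_mul, neg_neg, hc,
    mul_neg, ← h3, ← hc] at h4
  conv_rhs => rw [← h4]
  group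

end Cfsg.Agent.KZ.Mts
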